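import Cfsg.Agent.Lib.SqDerived.Basic
import Cfsg.Agent.Lib.ClassicalSimple.DicksonRank

/-!
Sylow 2-subgroups of orthogonal groups in characteristic two have elementary abelian
abelianisation: induction along the stabiliser of a singular vector.
-/

set_option autoImplicit false

namespace Cfsg.Agent.SqDerived

open Cfsg.Agent.ClassicalSimple

variable {F V : Type*} [Field F] [AddCommGroup V] [Module F V] {Q : QuadraticForm F V}

/-- The vectors orthogonal to a set. -/
def operp (Q : QuadraticForm F V) (D : Set V) : Submodule F V where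
  carrier := {x | ∀ d ∈ D, bil Q d x = 0}
  add_mem' := fun {x y} hx hy d hd => by simp [hx d hd, hy d hd]
  zero_mem' := fun d _ => map_zero _
  smul_mem' := fun c x hx d hd => by simp [hx d hd]

theorem mem_operp {D : Set V} {x : V} : x ∈ operp Q D ↔ ∀ d ∈ D, bil Q d x = 0 := Iff.rfl

theorem bil_self_char_two [CharP F 2] (x : V) : bil Q x x = 0 := by
  rw [bil_self, CharTwo.two_eq_zero, zero_mul]

theorem smul_mem_operp {D : Set V} {g : OQ Q} (hg : ∀ d ∈ D, g • d = d) {x : V}
    (hx : x ∈ operp Q D) : g • x ∈ operp Q D := fun d hd => by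
  rw [← hg d hd, bil_smul_smul]
  exact hx d hd

variable [FiniteDimensional F V]

theorem range_subOne_le {D : Set V} {g : OQ Q} (hg : ∀ d ∈ D, g • d = d) :
    LinearMap.range (subOne g) ≤ operp Q D := by
  rintro _ ⟨z, rfl⟩ d hd
  exact bil_fixed_sub (hg d hd) z

/-- `g - 1` has even rank. -/
def EvenRank (g : OQ Q) : Prop := Even (Module.finrank F (LinearMap.range (subOne g)))

/-- The Siegel transformations along `u` with vector in the orthogonal of `D`. -/
def siegelAt (D : Set V) {u : V} (hu : Q u = 0) : Subgroup (OQ Q) where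
  carrier := {g | ∃ (w : V) (hw : bil Q u w = 0), w ∈ operp Q D ∧ g = siegel hu hw}
  mul_mem' := by
    rintro _ _ ⟨w, hw, hwD, rfl⟩ ⟨w', hw', hwD', rfl⟩
    exact ⟨w + w', by simp [hw, hw'], add_mem hwD hwD', siegel_mul hu hw hw'⟩
  one_mem' := ⟨0, map_zero _, zero_mem _, (siegel_zero hu _).symm⟩
  inv_mem' := by
    rintro _ ⟨w, hw, hwD, rfl⟩
    refine ⟨-w, by simp [hw], neg_mem hwD, inv_eq_of_mul_eq_one_right ?_⟩
    rw [siegel_mul hu hw (by simp [hw] : bil Q u (-w) = 0)]
    exact (siegel_congr _ _ hu (map_zero _) rfl (add_neg_cancel w)).trans (siegel_zero hu _)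

theorem siegel_mul_self [CharP F 2] {u w : V} (hu : Q u = 0) (hw : bil Q u w = 0) :
    siegel hu hw * siegel hu hw = 1 := by
  rw [siegel_mul hu hw hw]
  refine (siegel_congr _ _ hu (map_zero _) rfl ?_).trans (siegel_zero hu _)
  rw [← two_smul F w, CharTwo.two_eq_zero, zero_smul]

variable [Finite F] [CharP F 2]

theorem isPGroup_siegelAt (D : Set V) {u : V} (hu : Q u = 0) :
    IsPGroup 2 (siegelAt (Q := Q) D hu) := by
  rintro ⟨_, w, hw, hwD, rfl⟩
  exact ⟨1, Subtype.ext (by simpa [pow_two] using siegel_mul_self hu hw)⟩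

/-- A singular fixed vector: the singular vectors orthogonal to an anisotropic fixed vector are a
set of even cardinality. -/
theorem exists_singular_fixed [Finite V] {D : Set V} {P : Subgroup (OQ Q)} (hP : IsPGroup 2 P)
    (hD : ∀ g ∈ P, ∀ d ∈ D, g • d = d) (h3 : 3 ≤ Module.finrank F (operp Q D)) :
    ∃ u ∈ operp Q D, u ≠ 0 ∧ Q u = 0 ∧ ∀ g ∈ P, g • u = u := by
  classical
  have : Fact (Nat.Prime 2) := ⟨Nat.prime_two⟩
  have : Fintype F := Fintype.ofFinite F
  have hW : operp Q D ≠ ⊥ := fun e => by rw [e, finrank_bot] at h3; omega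
  obtain ⟨x, hxW, hx0, hxfix⟩ := exists_fixed_vector (M := OQ Q) hP (operp Q D) hW
    (fun g hg z hz => smul_mem_operp (hD g hg) hz) (fun g _ => smul_zero g)
  by_cases hQx : Q x = 0
  · exact ⟨x, hxW, hx0, hQx, hxfix⟩
  set T : Submodule F V := operp Q D ⊓ LinearMap.ker (bil Q x)
  have hxT : x ∈ T := ⟨hxW, bil_self_char_two x⟩
  have hT : 2 ≤ Module.finrank F T := by
    by_cases hall : ∀ z ∈ operp Q D, bil Q x z = 0
    · have : T = operp Q D := inf_eq_left.2 fun z hz => hall z hz
      rw [this]; omega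
    · push Not at hall
      obtain ⟨z, hz, hzx⟩ := hall
      have := finrank_inf_ker_add_one (operp Q D) (bil Q x) hz hzx
      change Module.finrank F T + 1 = _ at this
      omega
  set S : Set V := {y | y ∈ T ∧ Q y = 0}
  have hinv : ∀ g ∈ P, ∀ y ∈ S, g • y ∈ S := fun g hg y hy =>
    ⟨⟨smul_mem_operp (hD g hg) hy.1.1, by
      show bil Q x (g • y) = 0
      rw [← hxfix g hg, bil_smul_smul]
      exact hy.1.2⟩, by rw [quad_smul]; exact hy.2⟩
  have hbij : Function.Bijective (fun p : S × F =>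
      (⟨(p.1 : V) + p.2 • x, add_mem p.1.2.1 (T.smul_mem _ hxT)⟩ : T)) := by
    have hQ : ∀ (y : V) (c : F), y ∈ T → Q (y + c • x) = Q y + c * c * Q x := fun y c hy => by
      rw [quad_add, quad_smul_vec, map_smul, bil_comm, show bil Q x y = 0 from hy.2]
      simp
    constructor
    · rintro ⟨⟨y, hyT, hy0⟩, c⟩ ⟨⟨y', hyT', hy0'⟩, c'⟩ h
      have e : y + c • x = y' + c' • x := congrArg Subtype.val h
      have e' := congrArg Q e
      rw [hQ y c hyT, hQ y' c' hyT', hy0, hy0', zero_add, zero_add] at e'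
      have hc : c = c' := by
        have e'' := mul_right_cancel₀ hQx e'
        rw [← pow_two, ← pow_two] at e''
        exact CharTwo.sq_inj.1 e''
      subst hc
      simpa using e
    · rintro ⟨z, hz⟩
      obtain ⟨c, hc⟩ := FiniteField.isSquare_of_char_two (ringChar.eq F 2) (Q z / Q x)
      refine ⟨(⟨z + c • x, add_mem hz (T.smul_mem _ hxT), ?_⟩, c), Subtype.ext ?_⟩
      · rw [hQ z c hz, ← hc, div_mul_cancel₀ _ hQx, CharTwo.add_self_eq_zero]
      · show z + c • x + c • x = z
        rw [add_assoc, ← add_smul, CharTwo.add_self_eq_zero, zero_smul, add_zero]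
  have hcard := Nat.card_congr (Equiv.ofBijective _ hbij)
  rw [Nat.card_prod, Module.natCard_eq_pow_finrank (K := F) (V := T)] at hcard
  obtain ⟨n, hn⟩ : ∃ n, Module.finrank F T = n + 2 := ⟨_, (Nat.sub_add_cancel hT).symm⟩
  rw [hn, pow_succ] at hcard
  have hS := Nat.eq_of_mul_eq_mul_right Nat.card_pos hcard
  have hF2 : (2 : ℕ) ∣ Nat.card F := by
    obtain ⟨k, -, hk⟩ := FiniteField.card F 2
    rw [Nat.card_eq_fintype_card, hk]
    exact dvd_pow_self 2 k.pos.ne'
  obtain ⟨u, hu, hne, hfix⟩ := exists_fixed_ne hP S (Set.toFinite _) hinv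
    (by rw [hS, pow_succ]; exact dvd_mul_of_dvd_right hF2 _) (a := (0 : V))
    ⟨T.zero_mem, map_zero _⟩ (fun g _ => smul_zero g)
  exact ⟨u, hu.1.1, hne, hu.2, hfix⟩

/-- The induction. -/
theorem sqd_orth_aux [Finite V] : ∀ (n : ℕ) (D : Set V), Module.finrank F (operp Q D) ≤ n →
    (∀ z ∈ operp Q D, (∀ w ∈ operp Q D, bil Q z w = 0) → z = 0) →
    ∀ H : Subgroup (OQ Q), (∀ g ∈ H, EvenRank g) → (∀ g ∈ H, ∀ d ∈ D, g • d = d) →
    (∀ (u w : V) (hu : Q u = 0) (hw : bil Q u w = 0), u ∈ operp Q D → w ∈ operp Q D →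
      siegel hu hw ∈ H) →
    ∀ P : Subgroup (OQ Q), P ≤ H → IsPGroup 2 P →
    (∀ K : Subgroup (OQ Q), K ≤ H → IsPGroup 2 K → P ≤ K → K ≤ P) → SqD P := by
  have : Fact (Nat.Prime 2) := ⟨Nat.prime_two⟩
  intro n
  induction n using Nat.strong_induction_on with
  | _ n ih =>
  intro D hn hND H hev hfixD hsieg P hPH hP hmax
  by_cases h3 : Module.finrank F (operp Q D) ≤ 2
  · -- the group is trivial
    have hbot : P = ⊥ := by
      rw [Subgroup.eq_bot_iff_forall]
      intro g hg
      refine OQ.ext' fun z => ?_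
      rw [one_smul, ← sub_eq_zero, ← subOne_apply]
      suffices h : LinearMap.range (subOne g) = ⊥ from
        (Submodule.eq_bot_iff _).1 h _ ⟨z, rfl⟩
      have hle := range_subOne_le (hfixD g (hPH hg))
      by_cases hW : operp Q D = ⊥
      · exact eq_bot_iff.2 (hle.trans hW.le)
      obtain ⟨x, hxW, hx0, hxfix⟩ := exists_fixed_vector (M := OQ Q) hP (operp Q D) hW
        (fun g hg z hz => smul_mem_operp (hfixD g (hPH hg)) hz) (fun g _ => smul_zero g)
      obtain ⟨w, hw, hxw⟩ : ∃ w ∈ operp Q D, bil Q x w ≠ 0 := by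
        by_contra hc
        push Not at hc
        exact hx0 (hND x hxW hc)
      have h1 := finrank_inf_ker_add_one (operp Q D) (bil Q x) hw hxw
      have h2 : LinearMap.range (subOne g) ≤ operp Q D ⊓ LinearMap.ker (bil Q x) := by
        refine le_inf hle ?_
        rintro _ ⟨z, rfl⟩
        exact bil_fixed_sub (hxfix g hg) z
      have h4 := Submodule.finrank_mono h2
      obtain ⟨k, hk⟩ := hev g (hPH hg)
      exact Submodule.finrank_eq_zero.1 (by omega)
    rw [hbot]
    exact sqd_bot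
  obtain ⟨u, huW, hu0, hu, hufix⟩ :=
    exists_singular_fixed hP (fun g hg => hfixD g (hPH hg)) (by omega)
  obtain ⟨y, hyW, hy⟩ : ∃ y ∈ operp Q D, bil Q u y ≠ 0 := by
    by_contra hc
    push Not at hc
    exact hu0 (hND u huW hc)
  obtain ⟨v, hvW, hv, huv⟩ : ∃ v ∈ operp Q D, Q v = 0 ∧ bil Q u v = 1 := by
    obtain ⟨y1, hy1W, h1⟩ : ∃ y1 ∈ operp Q D, bil Q u y1 = 1 :=
      ⟨(bil Q u y)⁻¹ • y, Submodule.smul_mem _ _ hyW, by rw [map_smul, smul_eq_mul, inv_mul_cancel₀ hy]⟩
    refine ⟨y1 - Q y1 • u, sub_mem hy1W (Submodule.smul_mem _ _ huW), ?_, ?_⟩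
    · rw [quad_sub, quad_smul_vec, hu, map_smul, smul_eq_mul, bil_comm y1 u, h1]
      ring
    · rw [map_sub, map_smul, h1, bil_self_char_two, smul_zero, sub_zero]
  have hvu : bil Q v u = 1 := by rw [bil_comm, huv]
  set D' : Set V := insert u (insert v D)
  have hD' : ∀ z, z ∈ operp Q D' ↔ bil Q u z = 0 ∧ bil Q v z = 0 ∧ z ∈ operp Q D := fun z => by
    simp [D', mem_operp, Set.forall_mem_insert]
  have hlt : Module.finrank F (operp Q D') < Module.finrank F (operp Q D) := by
    refine Submodule.finrank_lt_finrank_of_lt (lt_of_le_of_ne (fun z hz => ((hD' z).1 hz).2.2) ?_)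
    intro e
    have := ((hD' u).1 (e ▸ huW)).2.1
    rw [hvu] at this
    exact one_ne_zero this
  have hND' : ∀ z ∈ operp Q D', (∀ w ∈ operp Q D', bil Q z w = 0) → z = 0 := by
    intro z hz hzw
    obtain ⟨hzu, hzv, hzD⟩ := (hD' z).1 hz
    refine hND z hzD fun w hw => ?_
    have hw' : w - bil Q v w • u - bil Q u w • v ∈ operp Q D' := by
      refine (hD' _).2 ⟨?_, ?_, sub_mem (sub_mem hw (Submodule.smul_mem _ _ huW))
        (Submodule.smul_mem _ _ hvW)⟩
      · simp [map_sub, map_smul, bil_self_of_singular hu, huv]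
      · simp [map_sub, map_smul, bil_self_of_singular hv, hvu]
    have := hzw _ hw'
    simpa [map_sub, map_smul, (bil_comm z u).trans hzu, (bil_comm z v).trans hzv] using this
  set H' : Subgroup (OQ Q) := H ⊓ (MulAction.stabilizer (OQ Q) u ⊓ MulAction.stabilizer (OQ Q) v)
  set P' : Subgroup (OQ Q) := P ⊓ (MulAction.stabilizer (OQ Q) u ⊓ MulAction.stabilizer (OQ Q) v)
  set R : Subgroup (OQ Q) := siegelAt D hu
  have hRH : R ≤ H := by
    rintro _ ⟨w, hw, hwD, rfl⟩
    exact hsieg u w hu hw huW hwD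
  have hnorm : ∀ K : Subgroup (OQ Q), (∀ g ∈ K, g • u = u ∧ ∀ d ∈ D, g • d = d) →
      K ≤ Subgroup.normalizer (R : Set (OQ Q)) := by
    intro K hK
    have key : ∀ g ∈ K, ∀ r ∈ R, g * r * g⁻¹ ∈ R := by
      rintro g hg _ ⟨w, hw, hwD, rfl⟩
      refine ⟨g • w, ?_, smul_mem_operp (hK g hg).2 hwD, ?_⟩
      · rw [← (hK g hg).1, bil_smul_smul, hw]
      · rw [siegel_conj g hu hw]
        exact siegel_congr _ _ _ _ (hK g hg).1 rfl
    intro g hg
    refine Subgroup.mem_normalizer_iff.2 fun r => ⟨key g hg r, fun h => ?_⟩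
    have := key g⁻¹ (inv_mem hg) _ h
    simpa [mul_assoc] using this
  have hPnorm := hnorm P fun g hg => ⟨hufix g hg, hfixD g (hPH hg)⟩
  have hRP : R ≤ P := le_sup_right.trans (hmax (P ⊔ R) (sup_le hPH hRH)
    (hP.to_sup_of_normal_right' (isPGroup_siegelAt D hu) hPnorm) le_sup_left)
  have hdecomp : ∀ g ∈ P, ∃ r ∈ R, ∃ h ∈ P', g = r * h := by
    intro g hg
    set w := g • v - v - bil Q (g • v) v • u with hw_def
    have hgu := hufix g hg
    have h1 : bil Q u (g • v) = 1 := by rw [← hgu, bil_smul_smul, huv]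
    have hw : bil Q u w = 0 := by
      simp [hw_def, map_sub, map_smul, h1, huv, bil_self_of_singular hu]
    have hvw : bil Q v w = 0 := by
      simp [hw_def, map_sub, map_smul, bil_comm (g • v) v, bil_self_of_singular hv, hvu]
    have hwW : w ∈ operp Q D := sub_mem (sub_mem (smul_mem_operp (hfixD g (hPH hg)) hvW) hvW)
      (Submodule.smul_mem _ _ huW)
    have hQw : Q w = -bil Q (g • v) v := by
      have hQg : Q (g • v) = 0 := by rw [quad_smul, hv]
      generalize hc : bil Q (g • v) v = c at hw_def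
      generalize g • v = v' at hw_def hQg
      have e : v' = v + (w + c • u) := by rw [hw_def]; abel
      rw [e, quad_add, quad_add, quad_smul_vec, hv, hu] at hQg
      simp only [map_add, map_smul, LinearMap.add_apply, smul_eq_mul, hvw, hvu,
        (bil_comm w u).trans hw] at hQg
      linear_combination hQg
    have hs : siegel hu hw • v = g • v := by
      rw [siegel_smul, hvu, hvw, hQw, one_smul, mul_one, zero_add, neg_smul, sub_neg_eq_add, hw_def]
      abel
    have hsu : siegel hu hw • u = u := by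
      simp [siegel_smul, bil_self_of_singular hu, hw]
    refine ⟨siegel hu hw, ⟨w, hw, hwW, rfl⟩, (siegel hu hw)⁻¹ * g,
      ⟨(mul_mem (inv_mem (hRP ⟨w, hw, hwW, rfl⟩)) hg : (siegel hu hw)⁻¹ * g ∈ P), ?_, ?_⟩, by simp⟩
    · show ((siegel hu hw)⁻¹ * g) • u = u
      rw [mul_smul, hgu, inv_smul_eq_iff, hsu]
    · show ((siegel hu hw)⁻¹ * g) • v = v
      rw [mul_smul, inv_smul_eq_iff, hs]
  have hP' : SqD P' := by
    refine ih _ (lt_of_lt_of_le hlt hn) D' le_rfl hND' H' (fun g hg => hev g hg.1) ?_ ?_ P'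
      (inf_le_inf_right _ hPH) (hP.to_le inf_le_left) ?_
    · intro g hg d hd
      rcases hd with rfl | rfl | hd
      exacts [hg.2.1, hg.2.2, hfixD g hg.1 d hd]
    · intro a w ha hw ha' hw'
      obtain ⟨hua, hva, haD⟩ := (hD' a).1 ha'
      obtain ⟨huw, hvw, hwD⟩ := (hD' w).1 hw'
      refine ⟨hsieg a w ha hw haD hwD, ?_, ?_⟩
      · show siegel ha hw • u = u
        simp [siegel_smul, hua, huw]
      · show siegel ha hw • v = v
        simp [siegel_smul, hva, hvw]
    · intro K hKH hK hle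
      have hKn := hnorm K fun g hg => ⟨(hKH hg).2.1, hfixD g (hKH hg).1⟩
      have hsup := hmax (K ⊔ R) (sup_le (hKH.trans inf_le_left) hRH)
        (hK.to_sup_of_normal_right' (isPGroup_siegelAt D hu) hKn) fun g hg => by
          obtain ⟨r, hr, h, hh, rfl⟩ := hdecomp g hg
          exact mul_mem (Subgroup.mem_sup_right hr) (Subgroup.mem_sup_left (hle hh))
      exact le_inf (le_sup_left.trans hsup) (hKH.trans inf_le_right)
  refine SqD.of_closure (S := (R : Set (OQ Q)) ∪ P') (Set.union_subset hRP inf_le_left) ?_ ?_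
  · intro g hg
    obtain ⟨r, hr, h, hh, rfl⟩ := hdecomp g hg
    exact mul_mem (Subgroup.subset_closure (Or.inl hr)) (Subgroup.subset_closure (Or.inr hh))
  · rintro s (hs | hs)
    · obtain ⟨w, hw, -, rfl⟩ := hs
      exact mul_self_mem_of_eq_one (siegel_mul_self hu hw)
    · exact Subgroup.commutator_mono inf_le_left inf_le_left (hP' s hs)

end Cfsg.Agent.SqDerived
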