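import Mathlib.GroupTheory.Sylow
import Mathlib.GroupTheory.Commutator.Basic
import Mathlib.Algebra.Module.Submodule.Lattice

/-!
Subgroups whose squares lie in their derived subgroup (equivalently, with elementary abelian
abelianisation), and transport of this property to Sylow 2-subgroups.
-/

set_option autoImplicit false

namespace Cfsg.Agent.SqDerived

open scoped commutatorElement

variable {M N : Type*} [Group M] [Group N]

/-- Every square of an element of `K` lies in the derived subgroup of `K`. -/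
def SqD (K : Subgroup M) : Prop := ∀ x ∈ K, x * x ∈ ⁅K, K⁆

theorem sqd_bot : SqD (⊥ : Subgroup M) := by
  intro x hx
  rw [Subgroup.mem_bot.1 hx, one_mul]
  exact one_mem _

/-- It suffices to check generators. -/
theorem SqD.of_closure {K : Subgroup M} {S : Set M} (hS : S ⊆ K) (hK : K ≤ Subgroup.closure S)
    (h : ∀ s ∈ S, s * s ∈ ⁅K, K⁆) : SqD K := by
  suffices key : ∀ x ∈ Subgroup.closure S, x ∈ K ∧ x * x ∈ ⁅K, K⁆ from fun x hx => (key x (hK hx)).2
  intro x hx
  induction hx using Subgroup.closure_induction with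
  | mem x hx => exact ⟨hS hx, h x hx⟩
  | one => exact ⟨one_mem _, by rw [one_mul]; exact one_mem _⟩
  | mul x y _ _ ihx ihy =>
    refine ⟨mul_mem ihx.1 ihy.1, ?_⟩
    rw [show x * y * (x * y) = x * x * ⁅x⁻¹, y⁆ * (y * y) by
      simp [commutatorElement_def, mul_assoc]]
    exact mul_mem (mul_mem ihx.2
      (Subgroup.commutator_mem_commutator (inv_mem ihx.1) ihy.1)) ihy.2
  | inv x _ ihx =>
    refine ⟨inv_mem ihx.1, ?_⟩
    rw [show x⁻¹ * x⁻¹ = (x * x)⁻¹ by group]
    exact inv_mem ihx.2

theorem SqD.map {K : Subgroup M} (h : SqD K) (f : M →* N) : SqD (K.map f) := by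
  rintro _ ⟨x, hx, rfl⟩
  rw [← map_mul, ← Subgroup.map_commutator]
  exact Subgroup.mem_map_of_mem f (h x hx)

theorem SqD.of_map {K : Subgroup M} {f : M →* N} (hf : Function.Injective f)
    (h : SqD (K.map f)) : SqD K := by
  intro x hx
  have h1 := h (f x) (Subgroup.mem_map_of_mem f hx)
  rw [← map_mul, ← Subgroup.map_commutator] at h1
  exact (Subgroup.mem_map_iff_mem hf).1 h1

/-- A join of subgroups has the property if the squares of the parts lie in the derived group. -/
theorem SqD.mono_sup {K : Subgroup M} {ι : Sort*} (L : ι → Subgroup M) (hle : ∀ i, L i ≤ K)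
    (hgen : K ≤ ⨆ i, L i) (h : ∀ i, ∀ x ∈ L i, x * x ∈ ⁅K, K⁆) : SqD K := by
  refine SqD.of_closure (S := ⋃ i, (L i : Set M)) ?_ ?_ ?_
  · exact Set.iUnion_subset fun i => hle i
  · exact hgen.trans (iSup_le fun i => fun x hx =>
      Subgroup.subset_closure (Set.mem_iUnion_of_mem i hx))
  · intro s hs
    obtain ⟨i, hi⟩ := Set.mem_iUnion.1 hs
    exact h i s hi

theorem SqD.mul_self_mem {K : Subgroup M} (h : SqD K) (x : K) :
    x ^ 2 ∈ commutator K := by
  have h1 : ((x * x : K) : M) ∈ ⁅K, K⁆ := h x x.2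
  rw [← Subgroup.map_subtype_commutator K, ← Subgroup.coe_subtype,
    Subgroup.mem_map_iff_mem K.subtype_injective] at h1
  rwa [pow_two]

/-- One Sylow subgroup of a covering group suffices. -/
theorem sylow_of_surjective {G : Type*} [Group G] [Finite M] (f : M →* G)
    (hf : Function.Surjective f) {p : ℕ} [Fact p.Prime] (S : Sylow p M)
    (hS : SqD (S : Subgroup M)) (P : Sylow p G) : SqD (P : Subgroup G) := by
  have : Finite G := Finite.of_surjective f hf
  obtain ⟨g, hg⟩ := MulAction.exists_smul_eq G (S.mapSurjective hf) P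
  have h := (hS.map f).map (MulAut.conj g).toMonoidHom
  rw [← hg]
  exact h

/-- A subgroup of order the full 2-part suffices. -/
theorem sylow_of_card {G : Type*} [Group G] [Finite M] (f : M →* G)
    (hf : Function.Surjective f) {p : ℕ} [Fact p.Prime] (K : Subgroup M)
    (hK : Nat.card K = p ^ (Nat.card M).factorization p)
    (hS : SqD K) (P : Sylow p G) : SqD (P : Subgroup G) := by
  refine sylow_of_surjective f hf (Sylow.ofCard K hK) ?_ P
  simpa using hS

/-- An involution satisfies the condition. -/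
theorem mul_self_mem_of_eq_one {K : Subgroup M} {x : M} (h : x * x = 1) : x * x ∈ ⁅K, K⁆ := by
  rw [h]; exact one_mem _

section Fixed

variable {X : Type*} [MulAction M X]

/-- A `p`-group acting on an invariant finite set whose cardinality is divisible by `p` and which
contains a fixed point fixes a further point. -/
theorem exists_fixed_ne {p : ℕ} [Fact p.Prime] {P : Subgroup M} (hP : IsPGroup p P) (s : Set X)
    (hfin : s.Finite) (hinv : ∀ g ∈ P, ∀ x ∈ s, g • x ∈ s) (hdvd : p ∣ Nat.card s)
    {a : X} (ha : a ∈ s) (hfix : ∀ g ∈ P, g • a = a) :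
    ∃ b ∈ s, b ≠ a ∧ ∀ g ∈ P, g • b = b := by
  let T : SubMulAction P X := ⟨s, fun {g x} hx => hinv g.1 g.2 x hx⟩
  have : Finite T := hfin.to_subtype
  obtain ⟨b, hb, hne⟩ := hP.exists_fixed_point_of_prime_dvd_card_of_fixed_point T
    (show p ∣ Nat.card T from hdvd) (a := ⟨a, ha⟩) (fun g => Subtype.ext (hfix g.1 g.2))
  exact ⟨b.1, b.2, fun e => hne (Subtype.ext e.symm),
    fun g hg => congrArg Subtype.val (hb ⟨g, hg⟩)⟩

end Fixed

/-- A finite 2-group of maps fixes a nonzero vector in every nonzero invariant subspace in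
characteristic two. -/
theorem exists_fixed_vector {F V : Type*} [Field F] [Finite F] [CharP F 2] [AddCommGroup V]
    [Module F V] [Finite V] [MulAction M V] {P : Subgroup M} (hP : IsPGroup 2 P)
    (W : Submodule F V) (hW : W ≠ ⊥) (hinv : ∀ g ∈ P, ∀ x ∈ W, g • x ∈ W)
    (h0 : ∀ g ∈ P, g • (0 : V) = 0) :
    ∃ x ∈ W, x ≠ 0 ∧ ∀ g ∈ P, g • x = x := by
  have : Fact (Nat.Prime 2) := ⟨Nat.prime_two⟩
  obtain ⟨w, hw, hw0⟩ := Submodule.exists_mem_ne_zero_of_ne_bot hW
  have h2 : (2 : ℕ) ∣ Nat.card W := by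
    have e : w + w = 0 := by
      rw [← two_smul F w, CharTwo.two_eq_zero, zero_smul]
    have ho : addOrderOf (⟨w, hw⟩ : W) = 2 :=
      addOrderOf_eq_prime (Subtype.ext (by simpa [two_nsmul] using e))
        (fun h => hw0 (congrArg Subtype.val h))
    exact ho ▸ addOrderOf_dvd_natCard _
  obtain ⟨b, hb, hne, hfix⟩ := exists_fixed_ne hP (W : Set V) (Set.toFinite _) hinv h2
    (a := (0 : V)) W.zero_mem h0
  exact ⟨b, hb, hne, hfix⟩

end Cfsg.Agent.SqDerived
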