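import Cfsg.Agent.Lib.SqDerived.Basic
import Cfsg.Agent.Lib.Chev.Sylow
import Cfsg.Agent.Lib.Chev.Seven
import Cfsg.Agent.Lib.Chev.TwistE6Group
import Cfsg.Agent.Lib.Chev.TwistD4Group
import Cfsg.Agent.Lib.Twisted.F4.Group
import Cfsg.Agent.Lib.Twisted.F4.Generation
import Cfsg.Agent.Lib.Sz.Sylow
import Cfsg.Agent.Lib.RootBN.TwistData

/-!
The positive unipotent subgroups of the exceptional, twisted and Suzuki families in characteristic
two have squares in the derived subgroup.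
-/

set_option autoImplicit false

namespace Cfsg.Agent.SqDerived

open Cfsg.Lie Cfsg.Agent.Chev Cfsg.Agent.Chev.BNSetup
open scoped commutatorElement

/-- Propagation from the simple root subgroups to `U`. -/
theorem sqd_U_of_simple {M : Type*} [Group M] {ι κ : Type*} {D : RootBN.Data M ι κ}
    (ax : D.Axioms) (h : ∀ i, SqD (D.X (D.simp i))) : SqD D.U := by
  refine SqD.mono_sup (fun r : {r : ι // D.Pos r} => D.X r.1) (fun r => RootBN.Data.X_le_U r.2)
    (iSup₂_le fun r hr => le_iSup (fun r : {r : ι // D.Pos r} => D.X r.1) ⟨r, hr⟩) ?_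
  rintro ⟨r, hr⟩ x hx
  obtain ⟨l, i, rfl⟩ := ax.reach r
  set g := D.nw l
  have hmap : (D.X (D.simp i)).map (MulAut.conj g).toMonoidHom = D.X (D.wl l (D.simp i)) := by
    ext y
    constructor
    · rintro ⟨z, hz, rfl⟩
      exact (RootBN.Data.acts_nw ax l _ z).2 hz
    · intro hy
      refine ⟨g⁻¹ * y * g, (RootBN.Data.acts_nw ax l _ _).1 ?_, by simp [mul_assoc]⟩
      simpa [g, mul_assoc] using hy
  have h1 := (h i).map (MulAut.conj g).toMonoidHom
  rw [hmap] at h1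
  exact Subgroup.commutator_mono (RootBN.Data.X_le_U hr) (RootBN.Data.X_le_U hr) (h1 x hx)

section Chevalley

variable {F : Type*} [Field F] [CharP F 2] {D : ChevalleyDatum}

/-- `U` of a Chevalley group. -/
theorem sqd_posUnipotent (hG : Good D) {tabs simps : List ℕ} (hf : Facts D tabs simps) :
    SqD (D.posUnipotent F) := by
  rw [← data_U hG hf]
  refine sqd_U_of_simple (axioms (F := F) hG hf) fun i x hx => ?_
  obtain ⟨t, rfl⟩ := (mem_rootSubgroup hG (hG.simple_lt i.2)).1 hx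
  refine mul_self_mem_of_eq_one ?_
  rw [xe_add hG (hG.simple_lt i.2), CharTwo.add_self_eq_zero, xe_zero hG (hG.simple_lt i.2)]

variable (hG : Good D) {G : GraphTab} {O : OrbTab} {no nj : ℕ} [NeZero no] [NeZero nj]
  {tabs simps : List ℕ} (hO : O.OK no nj D G tabs simps) (φ : F ≃+* F)
  (hf : Facts D tabs simps) (hn : NegTri D) (hcol : ∃ c, Valid D c ∧ G.colsOK D c = true)
include hf hn hcol

/-- `U` of a twisted group with orthogonal orbits. -/
theorem sqd_twist_U : SqD (D.posUnipotent F ⊓ (twist hG hO φ).Gt) := by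
  have hT := twist_axioms hG hO φ hf hn hcol
  have : Nonempty (Fin nj) := ⟨⟨0, Nat.pos_of_ne_zero (NeZero.ne nj)⟩⟩
  rw [← data_U hG hf, RootBN.Twist.inf_Gt_U hT]
  refine sqd_U_of_simple (RootBN.Twist.data_axioms hT) fun j x hx => ?_
  obtain ⟨a, -, rfl⟩ := (mem_X'_simp_iff hG hO φ hf hn hcol j).1 hx
  have hJ := (hO.2.2.1 j).1
  refine mul_self_mem_of_eq_one ?_
  rw [pv_mul hG (Or.inl rfl) hJ, ← pv_zero hG (F := F) (Or.inl rfl) hJ]
  simp only [CharTwo.add_self_eq_zero]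

end Chevalley

section F4

open Cfsg.Agent.Twisted.F4 Cfsg.Agent.RootBN

variable {F : Type*} [Field F] [CharP F 2] [Fintype F] {m : ℕ}
  (hK : Fintype.card F = 2 ^ (2 * m + 1))
include hK

omit [CharP F 2] in
/-- `x ↦ x^(θ+1)` is surjective. -/
theorem exists_pow_succ_eq (c : F) : ∃ a : F, a ^ (2 ^ m + 1) = c := by
  rcases eq_or_ne c 0 with rfl | hc
  · exact ⟨0, by simp⟩
  have hcop : (Nat.card Fˣ).Coprime (2 ^ m + 1) := by
    rw [Nat.card_units, Nat.card_eq_fintype_card, hK]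
    refine Nat.coprime_of_dvd fun k hk h1 h2 => hk.not_dvd_one ?_
    have h3 : k ∣ 2 ^ (2 * m) - 1 := by
      refine h2.trans ⟨2 ^ m - 1, ?_⟩
      rw [← Nat.sq_sub_sq, one_pow, ← pow_mul, mul_comm m 2]
    have h4 : 2 * (2 ^ (2 * m) - 1) + 1 = 2 ^ (2 * m + 1) - 1 := by
      have := Nat.one_le_pow (2 * m) 2 (by norm_num)
      rw [pow_succ]; omega
    exact (Nat.dvd_add_right (h3.mul_left 2)).1 (h4 ▸ h1)
  obtain ⟨a, ha⟩ := (powCoprime hcop).surjective (Units.mk0 c hc)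
  exact ⟨a, by simpa using congrArg Units.val ha⟩

theorem sqd_twistedF4_U (hm : 1 ≤ m) :
    SqD (chevF4.posUnipotent F ⊓ twistedF4 F (2 ^ m)) := by
  rw [U_inf_twisted hK]
  refine SqD.map ?_ _
  refine sqd_U_of_simple (dax hK) fun j => ?_
  fin_cases j
  · intro x hx
    obtain ⟨t, rfl⟩ := (mem_X'0 hK).1 hx
    refine mul_self_mem_of_eq_one ?_
    rw [f0, E0_mul, CharTwo.add_self_eq_zero, CharTwo.add_self_eq_zero]
    simp [E0, xg_zero]
  · intro x hx
    obtain ⟨t, u, rfl⟩ := (mem_X'1 hK).1 hx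
    obtain ⟨s, hs⟩ := exists_ne_half hK hm
    obtain ⟨a, ha⟩ := exists_pow_succ_eq hK (t ^ (2 ^ m + 1) / (s ^ 2 ^ m + s))
    have hmem : ∀ t u : F, f1 m t u ∈ (tw hK).data.X ((tw hK).data.simp 1) := fun t u =>
      (mem_X'1 hK).2 ⟨t, u, rfl⟩
    have key : f1 m t u * f1 m t u * (f1 m (s * a) 0 * f1 m a 0) = f1 m a 0 * f1 m (s * a) 0 := by
      have h2 := CharTwo.two_eq_zero (R := F)
      have ha' : a ^ (2 ^ m + 1) * (s ^ 2 ^ m + s) = t ^ (2 ^ m + 1) := by
        rw [ha, div_mul_cancel₀ _ hs]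
      rw [pow_succ, pow_succ] at ha'
      rw [f1_mul hK, f1_mul hK, f1_mul hK, f1_mul hK, mul_pow, CharTwo.add_self_eq_zero,
        CharTwo.add_self_eq_zero, zero_add, zero_add, zero_pow (by positivity), zero_mul, add_zero,
        add_zero, zero_add, zero_add]
      congr 1
      · ring
      · linear_combination -ha' + (a ^ 2 ^ m * a * s ^ 2 ^ m) * h2
    have e : f1 m t u * f1 m t u = ⁅f1 m a 0, f1 m (s * a) 0⁆ := by
      rw [commutatorElement_def, eq_comm, mul_inv_eq_iff_eq_mul, mul_inv_eq_iff_eq_mul, ← key]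
      simp only [mul_assoc]
    rw [e]
    exact Subgroup.commutator_mem_commutator (hmem _ _) (hmem _ _)

end F4

section Suzuki

open Cfsg.Agent.SZ

variable {F : Type*} [Field F] [Fintype F] {m : ℕ}

theorem sqd_uGrp (hm : 1 ≤ m) (hF : Fintype.card F = 2 ^ (2 * m + 1)) : SqD (uGrp hF) := by
  intro x hx
  obtain ⟨a, b, rfl⟩ := (mem_uGrp hF).1 hx
  rw [tS_sq, ← Subgroup.map_subtype_commutator (uGrp hF), commutator_eq hm hF, center_eq hm hF]
  exact ⟨zHom hF (Multiplicative.ofAdd (th m a * a)), ⟨_, rfl⟩, rfl⟩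

end Suzuki

end Cfsg.Agent.SqDerived
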