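import Cfsg.Agent.Lib.SqDerived.Basic
import Cfsg.Agent.Lib.GL.Sylow

/-!
The unitriangular group of `SL_n` over a field of characteristic two has elementary abelian
abelianisation, being generated by transvections.
-/

set_option autoImplicit false

namespace Cfsg.Agent.SqDerived

open Matrix

variable {n : ℕ} {F : Type*} [Field F]

theorem transvection_mem_unitriangularSL {i j : Fin n} (h : i < j) (c : F) :
    SpecialLinearGroup.transvection h.ne c ∈ GL.unitriangularSL n F :=
  Subgroup.mem_comap.2 (GL.transvection_mem_unitriangular h c)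

/-- The unitriangular group is generated by its transvections. -/
theorem unitriangularSL_le_closure :
    GL.unitriangularSL n F ≤ Subgroup.closure
      {g | ∃ (i j : Fin n) (h : i < j) (c : F), g = SpecialLinearGroup.transvection h.ne c} := by
  classical
  set K := Subgroup.closure
    {g | ∃ (i j : Fin n) (h : i < j) (c : F), g = SpecialLinearGroup.transvection h.ne c}
  suffices key : ∀ k (g : SpecialLinearGroup (Fin n) F), g ∈ GL.unitriangularSL n F →
      (Finset.univ.filter fun p : Fin n × Fin n => p.1 < p.2 ∧ g.1 p.1 p.2 ≠ 0).card = k → g ∈ K from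
    fun g hg => key _ g hg rfl
  intro k
  induction k using Nat.strong_induction_on with
  | _ k ih =>
  intro g hg hk
  obtain ⟨h0, h1⟩ := GL.mem_unitriangular.1 (Subgroup.mem_comap.1 hg)
  simp only [SpecialLinearGroup.coe_GL_coe_matrix] at h0 h1
  set S := Finset.univ.filter fun p : Fin n × Fin n => p.1 < p.2 ∧ g.1 p.1 p.2 ≠ 0 with hS
  rcases S.eq_empty_or_nonempty with he | hne
  · have : g = 1 := Matrix.SpecialLinearGroup.ext _ _ (fun (i j : Fin n) => by
      show g.1 i j = (1 : Matrix (Fin n) (Fin n) F) i j
      rcases lt_trichotomy i j with h | h | h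
      · rw [Matrix.one_apply_ne h.ne]
        by_contra hne'
        have hm : (i, j) ∈ S := by simp [hS, h, hne']
        simp [he] at hm
      · subst h; simp [h1]
      · rw [Matrix.one_apply_ne h.ne', h0 i j h])
    rw [this]; exact one_mem _
  obtain ⟨⟨i, j⟩, hmem, hmax⟩ := Finset.exists_max_image S (fun p => p.2) hne
  obtain ⟨hij, hne'⟩ : i < j ∧ g.1 i j ≠ 0 := by simpa [hS] using hmem
  set t := SpecialLinearGroup.transvection hij.ne (-g.1 i j)
  have hrow : ∀ b, g.1 j b = if j = b then 1 else 0 := by
    intro b
    rcases lt_trichotomy j b with h | h | h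
    · rw [if_neg h.ne]
      by_contra hb
      exact absurd (hmax (j, b) (by simp [hS, h, hb])) h.not_ge
    · subst h; simp [h1]
    · rw [if_neg h.ne', h0 j b h]
  have hent : ∀ a b, (t * g).1 a b = if a = i ∧ b = j then 0 else g.1 a b := by
    intro a b
    show ((SpecialLinearGroup.transvection hij.ne (-g.1 i j)).1 * g.1) a b = _
    rw [SpecialLinearGroup.transvection_coe, Matrix.add_mul, Matrix.one_mul, Matrix.add_apply]
    by_cases ha : a = i
    · subst ha
      rw [Matrix.single_mul_apply_same, hrow b]
      by_cases hb : j = b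
      · subst hb; simp
      · simp [hb, Ne.symm hb]
    · rw [Matrix.single_mul_apply_of_ne _ _ _ _ _ ha]
      simp [ha]
  have ht : t ∈ K := Subgroup.subset_closure ⟨i, j, hij, _, rfl⟩
  have htg : t * g ∈ GL.unitriangularSL n F :=
    mul_mem (transvection_mem_unitriangularSL hij _) hg
  have hlt : (Finset.univ.filter fun p : Fin n × Fin n => p.1 < p.2 ∧ (t * g).1 p.1 p.2 ≠ 0).card
      < k := by
    rw [← hk]
    refine Finset.card_lt_card (Finset.ssubset_iff_of_subset ?_ |>.2 ⟨(i, j), hmem, by simp [hent]⟩)
    rintro ⟨a, b⟩ hp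
    simp only [Finset.mem_filter, hent] at hp
    simp only [hS, Finset.mem_filter]
    refine ⟨hp.1, hp.2.1, fun h => hp.2.2 ?_⟩
    split <;> simp [h]
  have := mul_mem (inv_mem ht) (ih _ hlt _ htg rfl)
  rwa [inv_mul_cancel_left] at this

theorem sqd_unitriangularSL [CharP F 2] : SqD (GL.unitriangularSL n F) := by
  refine SqD.of_closure ?_ unitriangularSL_le_closure ?_
  · rintro _ ⟨i, j, h, c, rfl⟩
    exact transvection_mem_unitriangularSL h c
  · rintro _ ⟨i, j, h, c, rfl⟩
    refine mul_self_mem_of_eq_one (Subtype.ext ?_)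
    simp [SpecialLinearGroup.transvection_coe, Matrix.add_mul, Matrix.mul_add,
      Matrix.single_mul_single_of_ne, h.ne']
    rw [add_assoc, ← two_smul F (Matrix.single i j c), CharTwo.two_eq_zero, zero_smul, add_zero]

end Cfsg.Agent.SqDerived
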