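import Cfsg.Agent.Lib.SqDerived.Basic
import Cfsg.Agent.Lib.ClassicalSimple.Symp

/-!
Sylow 2-subgroups of symplectic groups in characteristic two have elementary abelian
abelianisation: induction along the stabiliser of a vector.
-/

set_option autoImplicit false

namespace Cfsg.Agent.SqDerived

open Cfsg.Agent.ClassicalSimple

variable {F V : Type*} [Field F] [CharP F 2] [AddCommGroup V] [Module F V]
  {B : LinearMap.BilinForm F V}

/-- The vectors orthogonal to a set. -/
def sperp (B : LinearMap.BilinForm F V) (D : Set V) : Submodule F V where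
  carrier := {x | ∀ d ∈ D, B d x = 0}
  add_mem' := fun {x y} hx hy d hd => by simp [hx d hd, hy d hd]
  zero_mem' := fun d _ => map_zero _
  smul_mem' := fun c x hx d hd => by simp [hx d hd]

omit [CharP F 2] in
theorem mem_sperp {D : Set V} {x : V} : x ∈ sperp B D ↔ ∀ d ∈ D, B d x = 0 := Iff.rfl

omit [CharP F 2] in
theorem smul_mem_sperp {D : Set V} {g : SpB B} (hg : ∀ d ∈ D, g • d = d) {x : V}
    (hx : x ∈ sperp B D) : g • x ∈ sperp B D := fun d hd => by
  rw [← hg d hd, form_smul]
  exact hx d hd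

/-- `x ↦ x + B(x,u) w + B(x,w) u + a B(x,u) u`. -/
def sSiegelLin (B : LinearMap.BilinForm F V) (u w : V) (a : F) : V →ₗ[F] V :=
  LinearMap.id + ((LinearMap.flip B) u).smulRight w + ((LinearMap.flip B) w).smulRight u +
    (a • (LinearMap.flip B) u).smulRight u

omit [CharP F 2] in
theorem sSiegelLin_apply (u w : V) (a : F) (x : V) :
    sSiegelLin B u w a x = x + B x u • w + B x w • u + (a * B x u) • u := by
  simp [sSiegelLin]

variable (hA : LinearMap.IsAlt B)
include hA

theorem symm_char_two (x y : V) : B x y = B y x := by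
  rw [← LinearMap.IsAlt.neg hA y x, CharTwo.neg_eq]

omit [CharP F 2] in
theorem sSiegelLin_comp {u w w' : V} (hw : B u w = 0) (hw' : B u w' = 0) (a a' : F) (x : V) :
    sSiegelLin B u w a (sSiegelLin B u w' a' x) =
      sSiegelLin B u (w + w') (a + a' + B w' w) x := by
  have h1 : B w' u = 0 := by rw [← LinearMap.IsAlt.neg hA u w', hw', neg_zero]
  simp only [sSiegelLin_apply, map_add, map_smul, LinearMap.add_apply, LinearMap.smul_apply,
    smul_eq_mul, hA.self_eq_zero, hw, h1, mul_zero, add_zero]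
  module

/-- The element of the stabiliser of `u` with parameters `w ⊥ u` and `a`. -/
def sSiegel {u w : V} (hw : B u w = 0) (a : F) : SpB B :=
  have h2 : ∀ x, sSiegelLin B u w a (sSiegelLin B u w a x) = x := fun x => by
    rw [sSiegelLin_comp hA hw hw, hA.self_eq_zero, add_zero, CharTwo.add_self_eq_zero,
      ← two_smul F w, CharTwo.two_eq_zero, zero_smul]
    simp [sSiegelLin_apply]
  ⟨LinearEquiv.ofLinearMap (sSiegelLin B u w a) (sSiegelLin B u w a)
    (LinearMap.ext h2) (LinearMap.ext h2), fun x y => by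
    show B (sSiegelLin B u w a x) (sSiegelLin B u w a y) = B x y
    simp only [sSiegelLin_apply, map_add, map_smul, LinearMap.add_apply, LinearMap.smul_apply,
      smul_eq_mul, hA.self_eq_zero, hw, symm_char_two hA w u, symm_char_two hA u y,
      symm_char_two hA w y, mul_zero, add_zero]
    have h := CharTwo.two_eq_zero (R := F)
    linear_combination (B x u * B y w + B x w * B y u + a * B x u * B y u) * h⟩

theorem sSiegel_smul {u w : V} (hw : B u w = 0) (a : F) (x : V) :
    sSiegel hA hw a • x = x + B x u • w + B x w • u + (a * B x u) • u :=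
  sSiegelLin_apply u w a x

theorem sSiegel_mul {u w w' : V} (hw : B u w = 0) (hw' : B u w' = 0) (a a' : F) :
    sSiegel hA hw a * sSiegel hA hw' a' =
      sSiegel hA (u := u) (w := w + w') (by simp [hw, hw']) (a + a' + B w' w) :=
  SpB.ext' fun x => sSiegelLin_comp hA hw hw' a a' x

theorem sSiegel_mul_self {u w : V} (hw : B u w = 0) (a : F) :
    sSiegel hA hw a * sSiegel hA hw a = 1 := by
  refine SpB.ext' fun x => ?_
  rw [sSiegel_mul, sSiegel_smul, hA.self_eq_zero, add_zero, CharTwo.add_self_eq_zero, one_smul,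
    ← two_smul F w, CharTwo.two_eq_zero, zero_smul]
  simp

theorem sSiegel_conj (g : SpB B) {u w : V} (hw : B u w = 0) (a : F) (hgu : g • u = u)
    (hw' : B u (g • w) = 0) :
    g * sSiegel hA hw a * g⁻¹ = sSiegel hA hw' a := by
  refine SpB.ext' fun x => ?_
  have h1 : ∀ v, B (g⁻¹ • x) v = B x (g • v) := fun v => by
    rw [← form_smul g, smul_inv_smul]
  rw [mul_smul, mul_smul, sSiegel_smul, sSiegel_smul, h1, h1, hgu, smul_add, smul_add, smul_add,
    smul_inv_smul, smul_comm g, smul_comm g, smul_comm g, hgu]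

/-- The group of these elements with vector in the orthogonal of `D`. -/
def sSiegelAt (D : Set V) (u : V) : Subgroup (SpB B) where
  carrier := {g | ∃ (w : V) (hw : B u w = 0) (a : F), w ∈ sperp B D ∧ g = sSiegel hA hw a}
  mul_mem' := by
    rintro _ _ ⟨w, hw, a, hwD, rfl⟩ ⟨w', hw', a', hwD', rfl⟩
    exact ⟨w + w', _, _, add_mem hwD hwD', sSiegel_mul hA hw hw' a a'⟩
  one_mem' := ⟨0, map_zero _, 0, zero_mem _, SpB.ext' fun x => by simp [sSiegel_smul]⟩
  inv_mem' := by
    rintro _ ⟨w, hw, a, hwD, rfl⟩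
    exact ⟨w, hw, a, hwD, inv_eq_of_mul_eq_one_right (sSiegel_mul_self hA hw a)⟩

theorem isPGroup_sSiegelAt (D : Set V) (u : V) : IsPGroup 2 (sSiegelAt hA D u) := by
  rintro ⟨_, w, hw, a, hwD, rfl⟩
  exact ⟨1, Subtype.ext (by simpa [pow_two] using sSiegel_mul_self hA hw a)⟩

variable [FiniteDimensional F V] [Finite F] [Finite V]

/-- The induction. -/
theorem sqd_symp_aux : ∀ (n : ℕ) (D : Set V), Module.finrank F (sperp B D) ≤ n →
    (∀ z ∈ sperp B D, (∀ w ∈ sperp B D, B z w = 0) → z = 0) →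
    (∀ g : SpB B, (∀ d ∈ D, g • d = d) → (∀ x ∈ sperp B D, g • x = x) → g = 1) →
    ∀ H : Subgroup (SpB B), (∀ g, g ∈ H ↔ ∀ d ∈ D, g • d = d) →
    ∀ P : Subgroup (SpB B), P ≤ H → IsPGroup 2 P →
    (∀ K : Subgroup (SpB B), K ≤ H → IsPGroup 2 K → P ≤ K → K ≤ P) → SqD P := by
  have : Fact (Nat.Prime 2) := ⟨Nat.prime_two⟩
  intro n
  induction n using Nat.strong_induction_on with
  | _ n ih =>
  intro D hn hND htriv H hH P hPH hP hmax
  have hfixD : ∀ g ∈ H, ∀ d ∈ D, g • d = d := fun g hg => (hH g).1 hg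
  by_cases hW : sperp B D = ⊥
  · have hbot : P = ⊥ := (Subgroup.eq_bot_iff_forall _).2 fun g hg =>
      htriv g (hfixD g (hPH hg)) fun x hx => by
        rw [hW, Submodule.mem_bot] at hx
        rw [hx, smul_zero]
    rw [hbot]
    exact sqd_bot
  obtain ⟨u, huW, hu0, hufix⟩ := exists_fixed_vector (M := SpB B) hP (sperp B D) hW
    (fun g hg z hz => smul_mem_sperp (hfixD g (hPH hg)) hz) (fun g _ => smul_zero g)
  obtain ⟨v, hvW, huv⟩ : ∃ v ∈ sperp B D, B u v = 1 := by
    obtain ⟨y, hyW, hy⟩ : ∃ y ∈ sperp B D, B u y ≠ 0 := by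
      by_contra hc
      push Not at hc
      exact hu0 (hND u huW hc)
    exact ⟨(B u y)⁻¹ • y, Submodule.smul_mem _ _ hyW,
      by rw [map_smul, smul_eq_mul, inv_mul_cancel₀ hy]⟩
  have hvu : B v u = 1 := by rw [symm_char_two hA, huv]
  set D' : Set V := insert u (insert v D)
  have hD' : ∀ z, z ∈ sperp B D' ↔ B u z = 0 ∧ B v z = 0 ∧ z ∈ sperp B D := fun z => by
    simp [D', mem_sperp]
  have hlt : Module.finrank F (sperp B D') < Module.finrank F (sperp B D) := by
    refine Submodule.finrank_lt_finrank_of_lt (lt_of_le_of_ne (fun z hz => ((hD' z).1 hz).2.2) ?_)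
    intro e
    have := ((hD' u).1 (e ▸ huW)).2.1
    rw [hvu] at this
    exact one_ne_zero this
  have hsplit : ∀ w ∈ sperp B D, w - B v w • u - B u w • v ∈ sperp B D' := fun w hw => by
    refine (hD' _).2 ⟨?_, ?_, sub_mem (sub_mem hw (Submodule.smul_mem _ _ huW))
      (Submodule.smul_mem _ _ hvW)⟩
    · simp [map_sub, map_smul, hA.self_eq_zero, huv]
    · simp [map_sub, map_smul, hA.self_eq_zero, hvu]
  have hND' : ∀ z ∈ sperp B D', (∀ w ∈ sperp B D', B z w = 0) → z = 0 := by
    intro z hz hzw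
    obtain ⟨hzu, hzv, hzD⟩ := (hD' z).1 hz
    refine hND z hzD fun w hw => ?_
    simpa [map_sub, map_smul, (symm_char_two hA z u).trans hzu,
      (symm_char_two hA z v).trans hzv] using hzw _ (hsplit w hw)
  have htriv' : ∀ g : SpB B, (∀ d ∈ D', g • d = d) → (∀ x ∈ sperp B D', g • x = x) → g = 1 := by
    intro g hg hx
    refine htriv g (fun d hd => hg d (by simp [D', hd])) fun w hw => ?_
    have h1 := hx _ (hsplit w hw)
    rw [smul_sub, smul_sub, smul_comm g, smul_comm g, hg u (by simp [D']),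
      hg v (by simp [D'])] at h1
    exact sub_left_inj.1 (sub_left_inj.1 h1)
  set H' : Subgroup (SpB B) := H ⊓ (MulAction.stabilizer (SpB B) u ⊓ MulAction.stabilizer (SpB B) v)
  set P' : Subgroup (SpB B) := P ⊓ (MulAction.stabilizer (SpB B) u ⊓ MulAction.stabilizer (SpB B) v)
  set R : Subgroup (SpB B) := sSiegelAt hA D u
  have hRH : R ≤ H := by
    rintro _ ⟨w, hw, a, hwD, rfl⟩
    refine (hH _).2 fun d hd => ?_
    rw [sSiegel_smul, mem_sperp.1 huW d hd, mem_sperp.1 hwD d hd]
    simp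
  have hnorm : ∀ K : Subgroup (SpB B), (∀ g ∈ K, g • u = u ∧ ∀ d ∈ D, g • d = d) →
      K ≤ Subgroup.normalizer (R : Set (SpB B)) := by
    intro K hK
    have key : ∀ g ∈ K, ∀ r ∈ R, g * r * g⁻¹ ∈ R := by
      rintro g hg _ ⟨w, hw, a, hwD, rfl⟩
      have hw' : B u (g • w) = 0 := by rw [← (hK g hg).1, form_smul, hw]
      exact ⟨g • w, hw', a, smul_mem_sperp (hK g hg).2 hwD,
        sSiegel_conj hA g hw a (hK g hg).1 hw'⟩
    intro g hg
    refine Subgroup.mem_normalizer_iff.2 fun r => ⟨key g hg r, fun h => ?_⟩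
    simpa [mul_assoc] using key g⁻¹ (inv_mem hg) _ h
  have hRP : R ≤ P := le_sup_right.trans (hmax (P ⊔ R) (sup_le hPH hRH)
    (hP.to_sup_of_normal_right' (isPGroup_sSiegelAt hA D u)
      (hnorm P fun g hg => ⟨hufix g hg, hfixD g (hPH hg)⟩)) le_sup_left)
  have hdecomp : ∀ g ∈ P, ∃ r ∈ R, ∃ h ∈ P', g = r * h := by
    intro g hg
    set w := g • v - v - B (g • v) v • u with hw_def
    have hgu := hufix g hg
    have h1 : B u (g • v) = 1 := by rw [← hgu, form_smul, huv]
    have hw : B u w = 0 := by simp [hw_def, map_sub, map_smul, h1, huv, hA.self_eq_zero]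
    have hvw : B v w = 0 := by
      simp [hw_def, map_sub, map_smul, symm_char_two hA (g • v) v, hA.self_eq_zero, hvu]
    have hwW : w ∈ sperp B D := sub_mem (sub_mem (smul_mem_sperp (hfixD g (hPH hg)) hvW) hvW)
      (Submodule.smul_mem _ _ huW)
    set r := sSiegel hA hw (B (g • v) v)
    have hrv : r • v = g • v := by
      rw [sSiegel_smul, hvu, hvw, hw_def]
      simp only [one_smul, zero_smul, add_zero, mul_one]
      abel
    have hru : r • u = u := by
      simp [r, sSiegel_smul, hA.self_eq_zero, hw]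
    have hr : r ∈ R := ⟨w, hw, _, hwW, rfl⟩
    refine ⟨r, hr, r⁻¹ * g, ⟨(mul_mem (inv_mem (hRP hr)) hg : r⁻¹ * g ∈ P), ?_, ?_⟩, by simp⟩
    · show (r⁻¹ * g) • u = u
      rw [mul_smul, hgu, inv_smul_eq_iff, hru]
    · show (r⁻¹ * g) • v = v
      rw [mul_smul, inv_smul_eq_iff, hrv]
  have hP' : SqD P' := by
    refine ih _ (lt_of_lt_of_le hlt hn) D' le_rfl hND' htriv' H' (fun g => ?_) P'
      (inf_le_inf_right _ hPH) (hP.to_le inf_le_left) ?_
    · simp [H', D', hH g, and_comm, and_assoc, and_left_comm]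
    · intro K hKH hK hle
      have hsup := hmax (K ⊔ R) (sup_le (hKH.trans inf_le_left) hRH)
        (hK.to_sup_of_normal_right' (isPGroup_sSiegelAt hA D u)
          (hnorm K fun g hg => ⟨(hKH hg).2.1, hfixD g (hKH hg).1⟩)) fun g hg => by
          obtain ⟨r, hr, h, hh, rfl⟩ := hdecomp g hg
          exact mul_mem (Subgroup.mem_sup_right hr) (Subgroup.mem_sup_left (hle hh))
      exact le_inf (le_sup_left.trans hsup) (hKH.trans inf_le_right)
  refine SqD.of_closure (S := (R : Set (SpB B)) ∪ P') (Set.union_subset hRP inf_le_left) ?_ ?_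
  · intro g hg
    obtain ⟨r, hr, h, hh, rfl⟩ := hdecomp g hg
    exact mul_mem (Subgroup.subset_closure (Or.inl hr)) (Subgroup.subset_closure (Or.inr hh))
  · rintro s (hs | hs)
    · obtain ⟨w, hw, a, -, rfl⟩ := hs
      exact mul_self_mem_of_eq_one (sSiegel_mul_self hA hw a)
    · exact Subgroup.commutator_mono inf_le_left inf_le_left (hP' s hs)

/-- Sylow 2-subgroups of the symplectic group. -/
theorem sqd_symp (hN : B.Nondegenerate) (S : Sylow 2 (SpB B)) : SqD (S : Subgroup (SpB B)) := by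
  have htop : ∀ x : V, x ∈ sperp B (∅ : Set V) := fun x d hd => absurd hd (by simp)
  refine sqd_symp_aux hA _ ∅ le_rfl (fun z _ h => hN.1 z fun w => h w (htop w))
    (fun g _ h => SpB.ext' fun x => by rw [one_smul]; exact h x (htop x)) ⊤ (by simp) _ le_top
    S.isPGroup' fun K _ hK hle => (S.is_maximal' hK hle).le

end Cfsg.Agent.SqDerived
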