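import Cfsg.Agent.Lib.SqDerived.Basic
import Cfsg.Agent.Lib.ClassicalSimple.Unitary
import Mathlib.Algebra.CharP.Reduced

/-!
Sylow 2-subgroups of unitary groups in characteristic two have elementary abelian
abelianisation: induction along stabilisers of vectors.
-/

set_option autoImplicit false

namespace Cfsg.Agent.SqDerived

open Cfsg.Agent.ClassicalSimple
open scoped commutatorElement

variable {F V : Type*} [Field F] [CharP F 2] [AddCommGroup V] [Module F V]
  {σ : F →+* F} {h : V →ₛₗ[σ] V →ₗ[F] F}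

/-- The vectors orthogonal to a set. -/
def uperpSet (h : V →ₛₗ[σ] V →ₗ[F] F) (D : Set V) : Submodule F V where
  carrier := {x | ∀ d ∈ D, h d x = 0}
  add_mem' := fun {x y} hx hy d hd => by simp [hx d hd, hy d hd]
  zero_mem' := fun d _ => map_zero _
  smul_mem' := fun c x hx d hd => by simp [hx d hd]

omit [CharP F 2] in
theorem mem_uperpSet {D : Set V} {x : V} : x ∈ uperpSet h D ↔ ∀ d ∈ D, h d x = 0 := Iff.rfl

omit [CharP F 2] in
theorem smul_mem_uperpSet {D : Set V} {g : UH h} (hg : ∀ d ∈ D, g • d = d) {x : V}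
    (hx : x ∈ uperpSet h D) : g • x ∈ uperpSet h D := fun d hd => by
  rw [← hg d hd, uh_smul_smul]
  exact hx d hd

/-- `x ↦ x + h(u,x) w - h(w,x) u + c h(u,x) u`. -/
def uSiegelLin (h : V →ₛₗ[σ] V →ₗ[F] F) (u w : V) (c : F) : V →ₗ[F] V :=
  LinearMap.id + (h u).smulRight w - (h w).smulRight u + (c • h u).smulRight u

omit [CharP F 2] in
theorem uSiegelLin_apply (u w : V) (c : F) (x : V) :
    uSiegelLin h u w c x = x + h u x • w - h w x • u + (c * h u x) • u := by
  simp [uSiegelLin]

omit [CharP F 2] in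
theorem uSiegelLin_comp (hh : IsUnitaryForm σ h) {u w w' : V} (hu : h u u = 0) (hw : h u w = 0)
    (hw' : h u w' = 0) (c c' : F) (x : V) :
    uSiegelLin h u w c (uSiegelLin h u w' c' x) =
      uSiegelLin h u (w + w') (c + c' - h w w') x := by
  simp only [uSiegelLin_apply, map_add, map_sub, map_smul, LinearMap.add_apply, smul_eq_mul, hu,
    hw', hh.comm_zero hw, mul_zero, add_zero, sub_zero]
  module

variable (hh : IsUnitaryForm σ h) [FiniteDimensional F V]

/-- The element of the stabiliser of `u` with parameters `w` and `c`. -/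
noncomputable def uSiegel {u w : V} (hu : h u u = 0) (hw : h u w = 0) {c : F}
    (hc : c + σ c + h w w = 0) : UH h :=
  uMk hh (uSiegelLin h u w c) fun x y => by
    simp only [uSiegelLin_apply, map_add, map_sub, map_smulₛₗ, LinearMap.add_apply,
      LinearMap.sub_apply, LinearMap.smul_apply, smul_eq_mul, map_mul, RingHom.id_apply,
      hu, hw, hh.comm_zero hw, hh.swap u x, hh.swap w x, mul_zero, add_zero, sub_zero]
    linear_combination σ (h u x) * h u y * hc

omit [CharP F 2] in
theorem uSiegel_smul {u w : V} (hu : h u u = 0) (hw : h u w = 0) {c : F}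
    (hc : c + σ c + h w w = 0) (x : V) :
    uSiegel hh hu hw hc • x = x + h u x • w - h w x • u + (c * h u x) • u :=
  (uMk_smul hh _ x).trans (uSiegelLin_apply u w c x)

omit [CharP F 2] in
theorem uSiegel_congr {u w w' : V} (hu : h u u = 0) (hw : h u w = 0) (hw' : h u w' = 0) {c c' : F}
    (hc : c + σ c + h w w = 0) (hc' : c' + σ c' + h w' w' = 0) (e : w = w') (e' : c = c') :
    uSiegel hh hu hw hc = uSiegel hh hu hw' hc' := by
  subst e e'; rfl

omit [CharP F 2] in
theorem uSiegel_mul {u w w' : V} (hu : h u u = 0) (hw : h u w = 0) (hw' : h u w' = 0) {c c' : F}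
    (hc : c + σ c + h w w = 0) (hc' : c' + σ c' + h w' w' = 0) :
    uSiegel hh hu hw hc * uSiegel hh hu hw' hc' =
      uSiegel hh hu (w := w + w') (by simp [hw, hw']) (c := c + c' - h w w') (by
        simp only [map_add, map_sub, LinearMap.add_apply, ← hh.swap w w']
        linear_combination hc + hc') :=
  UH.ext' fun x => by
    rw [mul_smul, uSiegel_smul, uSiegel_smul, uSiegel_smul, ← uSiegelLin_apply,
      ← uSiegelLin_apply, ← uSiegelLin_apply, uSiegelLin_comp hh hu hw hw']

omit [CharP F 2] in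
theorem uSiegel_one {u : V} (hu : h u u = 0) :
    uSiegel hh hu (map_zero (h u)) (c := 0) (by simp) = 1 :=
  UH.ext' fun x => by simp [uSiegel_smul]

omit [CharP F 2] in
theorem uSiegel_conj (g : UH h) {u w : V} (hu : h u u = 0) (hw : h u w = 0) {c : F}
    (hc : c + σ c + h w w = 0) (hgu : g • u = u) (hw' : h u (g • w) = 0) :
    g * uSiegel hh hu hw hc * g⁻¹ =
      uSiegel hh hu hw' (c := c) (by rw [uh_smul_smul]; exact hc) := by
  refine UH.ext' fun x => ?_
  have h1 : ∀ v, h v (g⁻¹ • x) = h (g • v) x := fun v => by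
    rw [← uh_smul_smul g, smul_inv_smul]
  rw [mul_smul, mul_smul, uSiegel_smul, uSiegel_smul, h1, h1, hgu, smul_add, smul_sub, smul_add,
    smul_inv_smul, smul_comm g, smul_comm g, smul_comm g, hgu]

/-- The group of these elements with vector in the orthogonal of `D`. -/
noncomputable def uSiegelAt (D : Set V) {u : V} (hu : h u u = 0) : Subgroup (UH h) where
  carrier := {g | ∃ (w : V) (hw : h u w = 0) (c : F) (hc : c + σ c + h w w = 0),
    w ∈ uperpSet h D ∧ g = uSiegel hh hu hw hc}
  mul_mem' := by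
    rintro _ _ ⟨w, hw, c, hc, hwD, rfl⟩ ⟨w', hw', c', hc', hwD', rfl⟩
    exact ⟨w + w', _, _, _, add_mem hwD hwD', uSiegel_mul hh hu hw hw' hc hc'⟩
  one_mem' := ⟨0, map_zero _, 0, by simp, zero_mem _, (uSiegel_one hh hu).symm⟩
  inv_mem' := by
    rintro _ ⟨w, hw, c, hc, hwD, rfl⟩
    refine ⟨-w, by simp [hw], σ c, by
      simp only [map_neg, LinearMap.neg_apply, neg_neg, hh.invol]
      linear_combination hc, neg_mem hwD, inv_eq_of_mul_eq_one_right ?_⟩
    rw [uSiegel_mul]
    refine (uSiegel_congr hh hu _ (map_zero _) _ _ (add_neg_cancel w) ?_).trans (uSiegel_one hh hu)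
    rw [map_neg]
    linear_combination hc

include hh

/-- The square of an element with parameters `(w, c)` is a commutator. -/
theorem uSiegel_mul_self_mem {D : Set V} {u : V} (hu : h u u = 0) {g : UH h}
    (hg : g ∈ uSiegelAt hh D hu) : g * g ∈ ⁅uSiegelAt hh D hu, uSiegelAt hh D hu⁆ := by
  obtain ⟨w, hw, c, hc, hwD, rfl⟩ := hg
  obtain ⟨d, hd⟩ := hh.exists_trace_one
  have h2 := CharTwo.two_eq_zero (R := F)
  have hww : h (d • w) (d • w) = σ d * d * h w w := by
    simp [map_smulₛₗ, mul_assoc, mul_left_comm]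
  set c' : F := d * (σ d * d * h w w)
  have hc' : c' + σ c' + h (d • w) (d • w) = 0 := by
    simp only [hww, c', map_mul, hh.invol, hh.σ_self]
    linear_combination (σ d * d * h w w) * hd + (σ d * d * h w w) * h2
  have hw' : h u (d • w) = 0 := by simp [hw]
  set g := uSiegel hh hu hw hc
  set g' := uSiegel hh hu hw' hc'
  have key : g * g * (g' * g) = g * g' := by
    simp only [g, g', uSiegel_mul]
    refine uSiegel_congr hh hu _ _ _ _ ?_ ?_
    · rw [← two_smul F w, CharTwo.two_eq_zero, zero_smul, zero_add, add_comm]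
    · simp only [map_add, map_smulₛₗ, LinearMap.add_apply, LinearMap.smul_apply, smul_eq_mul,
        RingHom.id_apply]
      linear_combination (c - 2 * h w w) * h2 + (-(h w w)) * hd
  have e : g * g = ⁅g, g'⁆ := by
    rw [commutatorElement_def, eq_comm, mul_inv_eq_iff_eq_mul, mul_inv_eq_iff_eq_mul, ← key]
    simp only [mul_assoc]
  rw [e]
  exact Subgroup.commutator_mem_commutator ⟨w, hw, c, hc, hwD, rfl⟩
    ⟨d • w, hw', c', hc', Submodule.smul_mem _ _ hwD, rfl⟩

theorem isPGroup_uSiegelAt (D : Set V) {u : V} (hu : h u u = 0) :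
    IsPGroup 2 (uSiegelAt hh D hu) := by
  rintro ⟨_, w, hw, c, hc, hwD, rfl⟩
  refine ⟨2, Subtype.ext ?_⟩
  simp only [show (2 : ℕ) ^ 2 = 2 + 2 by norm_num, pow_add, pow_two, Subgroup.coe_mul,
    OneMemClass.coe_one, uSiegel_mul]
  refine (uSiegel_congr hh hu _ (map_zero _) _ _ ?_ ?_).trans (uSiegel_one hh hu)
  · rw [← two_smul F w, CharTwo.two_eq_zero, zero_smul, add_zero]
  · simp only [map_add, LinearMap.add_apply]
    linear_combination (c + c - h w w - h w w - h w w) * CharTwo.two_eq_zero (R := F)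

variable [Finite F] [Finite V]

/-- The induction. -/
theorem sqd_unit_aux : ∀ (n : ℕ) (D : Set V), Module.finrank F (uperpSet h D) ≤ n →
    (∀ z ∈ uperpSet h D, (∀ w ∈ uperpSet h D, h z w = 0) → z = 0) →
    (∀ g : UH h, (∀ d ∈ D, g • d = d) → (∀ x ∈ uperpSet h D, g • x = x) → g = 1) →
    ∀ H : Subgroup (UH h), (∀ g, g ∈ H ↔ ∀ d ∈ D, g • d = d) →
    ∀ P : Subgroup (UH h), P ≤ H → IsPGroup 2 P →
    (∀ K : Subgroup (UH h), K ≤ H → IsPGroup 2 K → P ≤ K → K ≤ P) → SqD P := by
  have : Fact (Nat.Prime 2) := ⟨Nat.prime_two⟩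
  intro n
  induction n using Nat.strong_induction_on with
  | _ n ih =>
  intro D hn hND htriv H hH P hPH hP hmax
  have hfixD : ∀ g ∈ H, ∀ d ∈ D, g • d = d := fun g hg => (hH g).1 hg
  by_cases hW : uperpSet h D = ⊥
  · have hbot : P = ⊥ := (Subgroup.eq_bot_iff_forall _).2 fun g hg =>
      htriv g (hfixD g (hPH hg)) fun x hx => by
        rw [hW, Submodule.mem_bot] at hx
        rw [hx, smul_zero]
    rw [hbot]
    exact sqd_bot
  obtain ⟨u, huW, hu0, hufix⟩ := exists_fixed_vector (M := UH h) hP (uperpSet h D) hW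
    (fun g hg z hz => smul_mem_uperpSet (hfixD g (hPH hg)) hz) (fun g _ => smul_zero g)
  by_cases hu : h u u = 0
  swap
  · -- an anisotropic fixed vector
    set D' : Set V := insert u D
    have hD' : ∀ z, z ∈ uperpSet h D' ↔ h u z = 0 ∧ z ∈ uperpSet h D := fun z => by
      simp [D', mem_uperpSet]
    have hlt : Module.finrank F (uperpSet h D') < Module.finrank F (uperpSet h D) := by
      refine Submodule.finrank_lt_finrank_of_lt (lt_of_le_of_ne (fun z hz => ((hD' z).1 hz).2) ?_)
      intro e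
      exact hu ((hD' u).1 (e ▸ huW)).1
    have hsplit : ∀ w ∈ uperpSet h D, w - ((h u u)⁻¹ * h u w) • u ∈ uperpSet h D' := fun w hw => by
      refine (hD' _).2 ⟨?_, sub_mem hw (Submodule.smul_mem _ _ huW)⟩
      rw [map_sub, map_smul, smul_eq_mul]
      field_simp
      ring
    refine ih _ (lt_of_lt_of_le hlt hn) D' le_rfl ?_ ?_ (H ⊓ MulAction.stabilizer (UH h) u)
      (fun g => by simp [D', hH g, and_comm]) P (le_inf hPH fun g hg => hufix g hg) hP
      (fun K hK hKp hle => hmax K (hK.trans inf_le_left) hKp hle)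
    · intro z hz hzw
      obtain ⟨hzu, hzD⟩ := (hD' z).1 hz
      refine hND z hzD fun w hw => ?_
      simpa [map_sub, map_smul, hh.comm_zero hzu] using hzw _ (hsplit w hw)
    · intro g hg hx
      refine htriv g (fun d hd => hg d (by simp [D', hd])) fun w hw => ?_
      have h1 := hx _ (hsplit w hw)
      rw [smul_sub, smul_comm g, hg u (by simp [D'])] at h1
      exact sub_left_inj.1 h1
  obtain ⟨v, hvW, hv, huv⟩ : ∃ v ∈ uperpSet h D, h v v = 0 ∧ h u v = 1 := by
    obtain ⟨y, hyW, hy⟩ : ∃ y ∈ uperpSet h D, h u y ≠ 0 := by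
      by_contra hc
      push Not at hc
      exact hu0 (hND u huW hc)
    obtain ⟨y1, hy1W, h1⟩ : ∃ y1 ∈ uperpSet h D, h u y1 = 1 :=
      ⟨(h u y)⁻¹ • y, Submodule.smul_mem _ _ hyW,
        by rw [map_smul, smul_eq_mul, inv_mul_cancel₀ hy]⟩
    obtain ⟨d, hd⟩ := hh.exists_trace_one
    refine ⟨y1 - (d * h y1 y1) • u, sub_mem hy1W (Submodule.smul_mem _ _ huW), ?_, ?_⟩
    · have h1' : h y1 u = 1 := by rw [hh.swap, h1, map_one]
      simp only [map_sub, map_smulₛₗ, LinearMap.sub_apply, LinearMap.smul_apply, smul_eq_mul,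
        map_mul, hh.σ_self, RingHom.id_apply, hu, h1, h1', mul_one, mul_zero, sub_zero]
      linear_combination -(h y1 y1) * hd
    · simp [map_sub, map_smul, h1, hu]
  have hvu : h v u = 1 := by rw [hh.swap, huv, map_one]
  set D' : Set V := insert u (insert v D)
  have hD' : ∀ z, z ∈ uperpSet h D' ↔ h u z = 0 ∧ h v z = 0 ∧ z ∈ uperpSet h D := fun z => by
    simp [D', mem_uperpSet]
  have hlt : Module.finrank F (uperpSet h D') < Module.finrank F (uperpSet h D) := by
    refine Submodule.finrank_lt_finrank_of_lt (lt_of_le_of_ne (fun z hz => ((hD' z).1 hz).2.2) ?_)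
    intro e
    have := ((hD' u).1 (e ▸ huW)).2.1
    rw [hvu] at this
    exact one_ne_zero this
  have hsplit : ∀ w ∈ uperpSet h D, w - h v w • u - h u w • v ∈ uperpSet h D' := fun w hw => by
    refine (hD' _).2 ⟨?_, ?_, sub_mem (sub_mem hw (Submodule.smul_mem _ _ huW))
      (Submodule.smul_mem _ _ hvW)⟩
    · simp [map_sub, map_smul, hu, huv]
    · simp [map_sub, map_smul, hv, hvu]
  have hND' : ∀ z ∈ uperpSet h D', (∀ w ∈ uperpSet h D', h z w = 0) → z = 0 := by
    intro z hz hzw
    obtain ⟨hzu, hzv, hzD⟩ := (hD' z).1 hz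
    refine hND z hzD fun w hw => ?_
    simpa [map_sub, map_smul, hh.comm_zero hzu, hh.comm_zero hzv] using hzw _ (hsplit w hw)
  have htriv' : ∀ g : UH h, (∀ d ∈ D', g • d = d) → (∀ x ∈ uperpSet h D', g • x = x) → g = 1 := by
    intro g hg hx
    refine htriv g (fun d hd => hg d (by simp [D', hd])) fun w hw => ?_
    have h1 := hx _ (hsplit w hw)
    rw [smul_sub, smul_sub, smul_comm g, smul_comm g, hg u (by simp [D']),
      hg v (by simp [D'])] at h1
    exact sub_left_inj.1 (sub_left_inj.1 h1)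
  set H' : Subgroup (UH h) := H ⊓ (MulAction.stabilizer (UH h) u ⊓ MulAction.stabilizer (UH h) v)
  set P' : Subgroup (UH h) := P ⊓ (MulAction.stabilizer (UH h) u ⊓ MulAction.stabilizer (UH h) v)
  set R : Subgroup (UH h) := uSiegelAt hh D hu
  have hRH : R ≤ H := by
    rintro _ ⟨w, hw, c, hc, hwD, rfl⟩
    refine (hH _).2 fun d hd => ?_
    rw [uSiegel_smul, hh.comm_zero (mem_uperpSet.1 huW d hd),
      hh.comm_zero (mem_uperpSet.1 hwD d hd)]
    simp
  have hnorm : ∀ K : Subgroup (UH h), (∀ g ∈ K, g • u = u ∧ ∀ d ∈ D, g • d = d) →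
      K ≤ Subgroup.normalizer (R : Set (UH h)) := by
    intro K hK
    have key : ∀ g ∈ K, ∀ r ∈ R, g * r * g⁻¹ ∈ R := by
      rintro g hg _ ⟨w, hw, c, hc, hwD, rfl⟩
      have hw' : h u (g • w) = 0 := by rw [← (hK g hg).1, uh_smul_smul, hw]
      exact ⟨g • w, hw', c, by rw [uh_smul_smul]; exact hc, smul_mem_uperpSet (hK g hg).2 hwD,
        uSiegel_conj hh g hu hw hc (hK g hg).1 hw'⟩
    intro g hg
    refine Subgroup.mem_normalizer_iff.2 fun r => ⟨key g hg r, fun h' => ?_⟩
    simpa [mul_assoc] using key g⁻¹ (inv_mem hg) _ h'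
  have hRP : R ≤ P := le_sup_right.trans (hmax (P ⊔ R) (sup_le hPH hRH)
    (hP.to_sup_of_normal_right' (isPGroup_uSiegelAt hh D hu)
      (hnorm P fun g hg => ⟨hufix g hg, hfixD g (hPH hg)⟩)) le_sup_left)
  have hdecomp : ∀ g ∈ P, ∃ r ∈ R, ∃ k ∈ P', g = r * k := by
    intro g hg
    set e := h v (g • v)
    set w := g • v - v - e • u with hw_def
    have hgu := hufix g hg
    have h1 : h u (g • v) = 1 := by rw [← hgu, uh_smul_smul, huv]
    have hw : h u w = 0 := by simp [hw_def, map_sub, map_smul, h1, huv, hu]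
    have hvw : h v w = 0 := by simp [hw_def, map_sub, map_smul, e, hv, hvu]
    have hwW : w ∈ uperpSet h D := sub_mem (sub_mem (smul_mem_uperpSet (hfixD g (hPH hg)) hvW) hvW)
      (Submodule.smul_mem _ _ huW)
    have hc : e + σ e + h w w = 0 := by
      have h2 : h (g • v) (g • v) = 0 := by rw [uh_smul_smul, hv]
      rw [show g • v = v + (w + e • u) by simp [hw_def]] at h2
      simp only [map_add, map_smulₛₗ, LinearMap.add_apply, LinearMap.smul_apply, smul_eq_mul,
        RingHom.id_apply, hv, hu, hw, hvw, hh.comm_zero hw, hh.comm_zero hvw, huv, hvu, mul_zero,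
        add_zero, zero_add, mul_one] at h2
      linear_combination h2
    set r := uSiegel hh hu hw hc
    have hrv : r • v = g • v := by
      rw [uSiegel_smul, huv, hh.comm_zero hvw, hw_def]
      simp only [one_smul, zero_smul, sub_zero, mul_one]
      abel
    have hru : r • u = u := by
      simp [r, uSiegel_smul, hu, hh.comm_zero hw]
    have hr : r ∈ R := ⟨w, hw, _, hc, hwW, rfl⟩
    refine ⟨r, hr, r⁻¹ * g, ⟨(mul_mem (inv_mem (hRP hr)) hg : r⁻¹ * g ∈ P), ?_, ?_⟩, by simp⟩
    · show (r⁻¹ * g) • u = u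
      rw [mul_smul, hgu, inv_smul_eq_iff, hru]
    · show (r⁻¹ * g) • v = v
      rw [mul_smul, inv_smul_eq_iff, hrv]
  have hP' : SqD P' := by
    refine ih _ (lt_of_lt_of_le hlt hn) D' le_rfl hND' htriv' H' (fun g => ?_) P'
      (inf_le_inf_right _ hPH) (hP.to_le inf_le_left) ?_
    · simp [H', D', hH g, and_comm, and_assoc, and_left_comm]
    · intro K hKH hK hle
      have hsup := hmax (K ⊔ R) (sup_le (hKH.trans inf_le_left) hRH)
        (hK.to_sup_of_normal_right' (isPGroup_uSiegelAt hh D hu)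
          (hnorm K fun g hg => ⟨(hKH hg).2.1, hfixD g (hKH hg).1⟩)) fun g hg => by
          obtain ⟨r, hr, k, hk, rfl⟩ := hdecomp g hg
          exact mul_mem (Subgroup.mem_sup_right hr) (Subgroup.mem_sup_left (hle hk))
      exact le_inf (le_sup_left.trans hsup) (hKH.trans inf_le_right)
  refine SqD.of_closure (S := (R : Set (UH h)) ∪ P') (Set.union_subset hRP inf_le_left) ?_ ?_
  · intro g hg
    obtain ⟨r, hr, k, hk, rfl⟩ := hdecomp g hg
    exact mul_mem (Subgroup.subset_closure (Or.inl hr)) (Subgroup.subset_closure (Or.inr hk))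
  · rintro s (hs | hs)
    · exact Subgroup.commutator_mono hRP hRP (uSiegel_mul_self_mem hh hu hs)
    · exact Subgroup.commutator_mono inf_le_left inf_le_left (hP' s hs)

/-- Sylow 2-subgroups of the special unitary group. -/
theorem sqd_suh (S : Sylow 2 (SUH h)) : SqD (S : Subgroup (SUH h)) := by
  have : Fact (Nat.Prime 2) := ⟨Nat.prime_two⟩
  have hdet : ∀ K : Subgroup (UH h), IsPGroup 2 K → K ≤ SUH h := by
    intro K hK g hg
    obtain ⟨k, hk⟩ := hK ⟨g, hg⟩
    have e := congrArg (fun x : K => LinearEquiv.det (((x : UH h)) : V ≃ₗ[F] V)) hk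
    simp only [SubgroupClass.coe_pow, map_pow, OneMemClass.coe_one, map_one] at e
    have e' := congrArg Units.val e
    rw [Units.val_pow_eq_pow_val, Units.val_one, LinearEquiv.coe_det] at e'
    rw [mem_SUH]
    refine iterateFrobenius_inj F 2 k ?_
    simpa [iterateFrobenius_def] using e'
  have htop : ∀ x : V, x ∈ uperpSet h (∅ : Set V) := fun x d hd => absurd hd (by simp)
  refine SqD.of_map (f := (SUH h).subtype) (SUH h).subtype_injective ?_
  refine sqd_unit_aux hh _ ∅ le_rfl (fun z _ hz => hh.sep z fun w => hz w (htop w))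
    (fun g _ hg => UH.ext' fun x => by rw [one_smul]; exact hg x (htop x)) ⊤ (by simp) _ le_top
    (S.isPGroup'.map _) ?_
  intro K _ hK hle
  have hKS := hdet K hK
  have h1 : (S : Subgroup (SUH h)) ≤ K.subgroupOf (SUH h) := fun x hx =>
    hle (Subgroup.mem_map_of_mem _ hx)
  have h2 : IsPGroup 2 (K.subgroupOf (SUH h)) := hK.of_equiv (Subgroup.subgroupOfEquivOfLe hKS).symm
  intro g hg
  exact ⟨⟨g, hKS hg⟩, (S.is_maximal' h2 h1).le hg, rfl⟩

end Cfsg.Agent.SqDerived
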