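import Cfsg.Prelude.Def_LieTypeChar
import Cfsg.Agent.Lib.SqDerived.Orth
import Cfsg.Agent.Lib.SqDerived.Symp
import Cfsg.Agent.Lib.SqDerived.Unitary
import Cfsg.Agent.Lib.SqDerived.Linear
import Cfsg.Agent.Lib.SqDerived.Exceptional
import Cfsg.Agent.Lib.ClassicalSimple.OrthMatrix
import Cfsg.Agent.Lib.ClassicalSimple.SympMatrix
import Cfsg.Agent.Lib.ClassicalSimple.UnitaryMatrix
import Cfsg.Agent.Lib.Forms.Quad
import Cfsg.Agent.Lib.LieOrder.Bounds
import Cfsg.Agent.Lib.Sz.Lie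
import Cfsg.Agent.S1066
import Cfsg.Agent.S1067
import Cfsg.Agent.S1068
import Cfsg.Agent.S1086
import Cfsg.Agent.S1088
import Cfsg.Agent.S1090

/-!
A Sylow 2-subgroup of a group of Lie type in characteristic two has its squares in its derived
subgroup.
-/

set_option autoImplicit false
set_option linter.unusedSectionVars false

namespace Cfsg.Agent.SqDerived

open Cfsg.Agent.ClassicalSimple

section Orth

variable {ι : Type} [Fintype ι] [DecidableEq ι] {F : Type*} [Field F] [Fintype F] [CharP F 2]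

theorem sqd_omega (Q : QuadraticForm F (ι → F)) (hQ : (QuadraticMap.polarBilin Q).Nondegenerate)
    (h5 : 5 ≤ Fintype.card ι) (S : Sylow 2 (Cfsg.Omega F ⇑Q)) :
    SqD (S : Subgroup (Cfsg.Omega F ⇑Q)) := by
  have hN := bil_nondegenerate Q hQ
  have h5' : 5 ≤ Module.finrank F (ι → F) := by rwa [Module.finrank_fintype_fun_eq_card]
  set f : Cfsg.Omega F ⇑Q →* OQ Q := (isometryEquiv Q).toMonoidHom.comp (Cfsg.Omega F ⇑Q).subtype
  have hf : Function.Injective f :=
    (isometryEquiv Q).injective.comp (Cfsg.Omega F ⇑Q).subtype_injective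
  have hrange : f.range = siegelGroup Q := by
    rw [MonoidHom.range_comp, Subgroup.range_subtype]
    exact (map_commutator_top (isometryEquiv Q)).trans (commutator_eq_siegelGroup hN h5')
  refine SqD.of_map hf ?_
  have htop : ∀ x : ι → F, x ∈ operp Q (∅ : Set (ι → F)) := fun x d hd => absurd hd (by simp)
  refine sqd_orth_aux _ ∅ le_rfl (fun z _ h => hN.1 z fun w => h w (htop w)) f.range ?_ (by simp)
    (fun u w hu hw _ _ => hrange ▸ siegel_mem hu hw) _ (Subgroup.map_le_range _ _)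
    (S.isPGroup'.map _) ?_
  · rintro _ ⟨k, rfl⟩
    have h1 := (mem_omega_iff_even_rank Q hQ (Or.inr (by omega)) k.1).1 k.2
    have h2 := rank_sub_one_add_fix Q k.1
    have h3 := LinearMap.finrank_range_add_finrank_ker (subOne (f k))
    rw [Module.finrank_fintype_fun_eq_card, ← h2] at h3
    have h4 : Module.finrank F (LinearMap.range (subOne (f k))) =
        ((((k.1 : Cfsg.isometryGroup F ⇑Q) : Matrix.GeneralLinearGroup ι F) : Matrix ι ι F) - 1).rank :=
      Nat.add_right_cancel h3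
    show Even _
    rw [h4]
    exact h1
  · intro K hK hKp hle g hg
    obtain ⟨k, rfl⟩ := hK hg
    have h1 : (S : Subgroup (Cfsg.Omega F ⇑Q)) ≤ K.comap f :=
      fun x hx => hle (Subgroup.mem_map_of_mem _ hx)
    exact ⟨k, (S.is_maximal' (hKp.comap_of_injective _ hf) h1).le hg, rfl⟩

end Orth

variable {G : Type*} [Group G] [Finite G]

section Tools

/-- From a covering group with a Sylow subgroup having the property. -/
theorem of_cover [Fact (Nat.Prime 2)] {M X : Type*} [Group M] [Finite M] [Group X] (e : G ≃* X)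
    (f : M →* X) (hf : Function.Surjective f) (S : Sylow 2 M) (hS : SqD (S : Subgroup M))
    (P : Sylow 2 G) : SqD (P : Subgroup G) :=
  sylow_of_surjective (e.symm.toMonoidHom.comp f) (e.symm.surjective.comp hf) S hS P

theorem of_quotient [Fact (Nat.Prime 2)] {M : Type*} [Group M] [Finite M] {Z : Subgroup M}
    [Z.Normal] (e : G ≃* M ⧸ Z) (S : Sylow 2 M) (hS : SqD (S : Subgroup M))
    (P : Sylow 2 G) : SqD (P : Subgroup G) :=
  of_cover e (QuotientGroup.mk' Z) (QuotientGroup.mk'_surjective Z) S hS P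

theorem exists_sylow_of_equiv [Fact (Nat.Prime 2)] {M M' : Type*} [Group M] [Finite M] [Group M']
    [Finite M'] (e : M ≃* M') (h : ∀ S : Sylow 2 M', SqD (S : Subgroup M')) :
    ∃ S : Sylow 2 M, SqD (S : Subgroup M) :=
  ⟨default, sylow_of_surjective e.symm.toMonoidHom e.symm.surjective default (h default) _⟩

theorem of_factorization [Fact (Nat.Prime 2)] {N : Type*} [Group N] [Finite N] {A X : Subgroup N}
    (e : G ≃* ↥X) (hA : SqD (A ⊓ X)) {q n k R d : ℕ} (hq : LieOrder.PosPow 2 q)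
    (hcard : Nat.card ↥(A ⊓ X) = q ^ k) (hn : n = Nat.card X) (hform : d * n = q ^ k * R)
    (hd : ¬ 2 ∣ d) (hR : ¬ 2 ∣ R) (P : Sylow 2 G) : SqD (P : Subgroup G) := by
  obtain ⟨j, -, hqe⟩ := hq
  have hn0 : n ≠ 0 := hn ▸ Nat.card_pos.ne'
  have hfac := LieOrder.factorization_of_formula Nat.prime_two hqe hn0 hform hd hR
  refine sylow_of_card e.symm.toMonoidHom e.symm.surjective ((A ⊓ X).subgroupOf X) ?_ ?_ P
  · rw [Nat.card_congr (Subgroup.subgroupOfEquivOfLe (inf_le_right : A ⊓ X ≤ X)).toEquiv, hcard, hqe,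
      ← pow_mul, ← hn, hfac]
  · refine SqD.of_map (f := X.subtype) X.subtype_injective ?_
    rwa [Subgroup.map_subgroupOf_eq_of_le inf_le_right]

theorem of_chev [Fact (Nat.Prime 2)] {F : Type*} [Field F] [Fintype F] [CharP F 2]
    {D : Lie.ChevalleyDatum} (hG : Chev.Good D) {tabs simps : List ℕ}
    (hf : Chev.BNSetup.Facts D tabs simps) (e : G ≃* ↥(D.group F)) (P : Sylow 2 G) :
    SqD (P : Subgroup G) := by
  obtain ⟨S, hS⟩ := Chev.ChevSylow.exists_sylow (F := F) 2 hG hf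
  refine sylow_of_surjective e.symm.toMonoidHom e.symm.surjective S ?_ P
  refine SqD.of_map (f := (D.group F).subtype) (D.group F).subtype_injective ?_
  rw [hS, Subgroup.map_subgroupOf_eq_of_le (Chev.ChevSylow.posUnipotent_le_group hG hf)]
  exact sqd_posUnipotent hG hf

theorem of_omega [Fact (Nat.Prime 2)] {ι : Type} [Fintype ι] [DecidableEq ι] {F : Type*} [Field F]
    [Fintype F] [CharP F 2] (Q : QuadraticForm F (ι → F)) (f : (ι → F) → F) (hQf : ⇑Q = f)
    (hQ : (QuadraticMap.polarBilin Q).Nondegenerate) (h5 : 5 ≤ Fintype.card ι)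
    (e : G ≃* Cfsg.POmega F f) (P : Sylow 2 G) : SqD (P : Subgroup G) := by
  subst hQf
  exact of_quotient e default (sqd_omega Q hQ h5 default) P

end Tools

/-- The main statement. -/
theorem sqd_of_lieType [Fact (Nat.Prime 2)] (hG : Cfsg.IsLieTypeChar 2 G) (P : Sylow 2 G) :
    SqD (P : Subgroup G) := by
  rcases hG with h | h | h | h | h | h | h | h | h | h | h
  · obtain ⟨F, _, _, _, n, -, -, ⟨e⟩⟩ := h
    exact of_quotient e (GL.sylowSL 2 n) (by rw [GL.coe_sylowSL]; exact sqd_unitriangularSL) P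
  · obtain ⟨F, _, _, _, m, -, -, ⟨e⟩⟩ := h
    have : Finite (SpB (sympBilin m F)) :=
      Finite.of_equiv _ (symplecticEquiv (m := m) (F := F)).toEquiv
    obtain ⟨S, hS⟩ := exists_sylow_of_equiv (symplecticEquiv (m := m) (F := F)) fun S =>
      sqd_symp sympBilin_isAlt sympBilin_nondegenerate S
    exact of_quotient e S hS P
  · obtain ⟨F, _, _, _, n, q, hF, -, -, ⟨e⟩⟩ := h
    have := Finite.of_equiv _ (suEquiv hF (n := n)).toEquiv
    obtain ⟨S, hS⟩ := exists_sylow_of_equiv (suEquiv hF (n := n)) fun S =>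
      sqd_suh (hermB_isUnitary hF) S
    exact of_quotient e S hS P
  · obtain ⟨F, _, _, _, m, -, hodd, -⟩ := h
    exact absurd (FiniteField.even_card_iff_char_two.1 (ringChar.eq F 2)) (by
      have := Nat.odd_iff.1 hodd; omega)
  · obtain ⟨F, _, _, _, m, hm, ⟨e⟩⟩ := h
    exact of_omega (Forms.quadPlus m F) _ (funext Forms.quadPlus_apply)
      (Forms.quadPlus_nondegenerate m)
      (by simp only [Fintype.card_sum, Fintype.card_fin]; omega) e P
  · obtain ⟨F, _, _, _, m, a, b, hm, hab, ⟨e⟩⟩ := h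
    exact of_omega (Forms.quadMinus (m - 1) F a b) _ (funext Forms.quadMinus_apply)
      (Forms.quadMinus_nondegenerate (m - 1) hab)
      (by simp only [Fintype.card_sum, Fintype.card_fin]; omega) e P
  · obtain ⟨F, _, _, _, h⟩ := h
    rcases h with ⟨-, ⟨e⟩⟩ | ⟨⟨e⟩⟩ | ⟨⟨e⟩⟩ | ⟨⟨e⟩⟩ | ⟨⟨e⟩⟩
    · exact of_chev Chev.G2.good Chev.BNSetup.facts_chevG2 e P
    · exact of_chev Chev.F4.good Chev.BNSetup.facts_chevF4 e P
    · exact of_chev Chev.E6.good Chev.BNSetup.facts_chevE6 e P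
    · exact of_chev Chev.E7.good Chev.BNSetup.facts_chevE7 e P
    · exact of_chev Chev.E8.good Chev.BNSetup.facts_chevE8 e P
  · obtain ⟨K, _, _, _, q, hq, ⟨hK, ⟨e⟩⟩ | ⟨hK, ⟨e⟩⟩⟩ := h
    · obtain ⟨φ, -, hGt, -, -⟩ := Chev.BNSetup.exists_frob2 hq hK
      have hA := sqd_twist_U Chev.E6.good Chev.BNSetup.orbE6_ok φ Chev.BNSetup.facts_chevE6
        Chev.BNSetup.negTri_chevE6 Chev.BNSetup.graphE6_cols
      change SqD (_ ⊓ (Chev.BNSetup.tw2E6 φ).Gt) at hA
      rw [hGt] at hA
      have hP : LieOrder.PosPow 2 q := by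
        obtain ⟨n, -, hn⟩ := FiniteField.card K 2
        exact LieOrder.posPow_of_pow_eq Nat.prime_two two_ne_zero (hK ▸ hn) hq.one_lt
      have hs : ∀ j, j ≠ 0 → ¬ 2 ∣ q ^ j - 1 := fun j => LieOrder.not_dvd_pow_sub_one Nat.prime_two hP
      have ha : ∀ j, j ≠ 0 → ¬ 2 ∣ q ^ j + 1 := fun j => LieOrder.not_dvd_pow_add_one Nat.prime_two hP
      have hmul : ∀ {a b : ℕ}, ¬ 2 ∣ a → ¬ 2 ∣ b → ¬ 2 ∣ a * b := fun ha hb hh =>
        (Nat.prime_two.dvd_mul.1 hh).elim ha hb
      have h66 := Cfsg.Agent.S1066.result (K := K) hq hK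
      simp only [mul_assoc] at h66
      refine of_factorization e hA hP (Cfsg.Agent.S1086.result hq hK) rfl h66
        (LieOrder.not_dvd_gcd (LieOrder.not_dvd_add_one Nat.prime_two hP)) ?_ P
      repeat' (first | apply hmul | apply hs | apply ha | omega)
    · obtain ⟨φ, -, hGt, -, -⟩ := Chev.BNSetup.exists_frob3 hq hK
      have hA := sqd_twist_U Chev.D4.good Chev.BNSetup.orbD4_ok φ Chev.BNSetup.facts_chevD4
        Chev.BNSetup.negTri_chevD4 Chev.BNSetup.graphD4_cols
      change SqD (_ ⊓ (Chev.BNSetup.tw3D4 φ).Gt) at hA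
      rw [hGt] at hA
      have hP : LieOrder.PosPow 2 q := by
        obtain ⟨n, -, hn⟩ := FiniteField.card K 2
        exact LieOrder.posPow_of_pow_eq Nat.prime_two three_ne_zero (hK ▸ hn) hq.one_lt
      have hs : ∀ j, j ≠ 0 → ¬ 2 ∣ q ^ j - 1 := fun j => LieOrder.not_dvd_pow_sub_one Nat.prime_two hP
      have hmul : ∀ {a b : ℕ}, ¬ 2 ∣ a → ¬ 2 ∣ b → ¬ 2 ∣ a * b := fun ha hb hh =>
        (Nat.prime_two.dvd_mul.1 hh).elim ha hb
      have h67 := (Cfsg.Agent.S1067.result (K := K) hq hK).symm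
      simp only [mul_assoc] at h67
      refine of_factorization e hA hP (Cfsg.Agent.S1088.result hq hK) rfl
        ((one_mul _).trans h67.symm) Nat.prime_two.not_dvd_one
        (hmul (hs _ (by omega)) (hmul (hs _ (by omega)) ?_)) P
      intro hh
      exact Nat.prime_two.not_dvd_one ((Nat.dvd_add_right (dvd_add
        (dvd_trans hP.dvd (dvd_pow_self q (by omega)))
        (dvd_trans hP.dvd (dvd_pow_self q (by omega))))).1 hh)
  · obtain ⟨-, F, _, _, m, hm, hF, ⟨e⟩⟩ := h
    refine sylow_of_surjective (e.symm.toMonoidHom.comp (SZ.szEquiv hm hF).toMonoidHom)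
      (e.symm.surjective.comp (SZ.szEquiv hm hF).surjective) (SZ.uSylow hm hF) ?_ P
    rw [SZ.coe_uSylow]
    exact sqd_uGrp hm hF
  · obtain ⟨-, K, _, _, m, hm, hK, ⟨e⟩⟩ := h
    have := Twisted.F4.charP_two hK
    have hP : LieOrder.PosPow 2 (2 ^ (2 * m + 1)) := ⟨_, by omega, rfl⟩
    have hmul : ∀ {a b : ℕ}, ¬ 2 ∣ a → ¬ 2 ∣ b → ¬ 2 ∣ a * b := fun ha hb hh =>
      (Nat.prime_two.dvd_mul.1 hh).elim ha hb
    have h68 := Cfsg.Agent.S1068.result (K := K) hK
    simp only [mul_assoc] at h68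
    exact of_factorization e (sqd_twistedF4_U hK hm) hP (Cfsg.Agent.S1090.result hK) rfl
      ((one_mul _).trans h68) Nat.prime_two.not_dvd_one
      (hmul (LieOrder.not_dvd_sub_one Nat.prime_two hP)
        (hmul (LieOrder.not_dvd_pow_add_one Nat.prime_two hP (by omega))
          (hmul (LieOrder.not_dvd_pow_sub_one Nat.prime_two hP (by omega))
            (LieOrder.not_dvd_pow_add_one Nat.prime_two hP (by omega))))) P
  · exact absurd h.1 (by norm_num)

end Cfsg.Agent.SqDerived
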